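import Groth.Agent.L13.PointBlow.Koszul
import Groth.Agent.L13.PointBlow.Lift
import Groth.Agent.L13.PointBlow.Acyclic
import Groth.Agent.L13.BlowP1.Embed
import Groth.Agent.L18.AmpleGG
import Groth.Agent.L16.Exist.AdicGen
import Groth.Agent.L17.ProjFormula
import Groth.Agent.L17.CohSections
import Groth.Agent.L21.RR.Twist
import Groth.Agent.L29.DCoh.PCQCoh
import Groth.Agent.L16.ProjSpace.AmpleIff

/-!
# Blow-ups in two generators: multiplication by the exceptional ideal
-/

set_option autoImplicit false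
set_option linter.style.haveILetI false
set_option backward.isDefEq.respectTransparency false

universe u

open CategoryTheory CategoryTheory.Limits AlgebraicGeometry TopologicalSpace Opposite
open Groth.L18.Frame (rs ro rs_rs rs_self rs_smul IsFrame)
open Groth.L18.GenLoc (tens tens_rs)
open Groth.Agent.L19.IdealInvertible (io io_inj)
open Groth.L00.Tensor (tensorMap tensorUnitLeft tensorRightF tensorLeftF)
open Groth.L11.BlowSmooth (sI)
open Groth.L13.BU (idealOf)
open Groth.L13.BlowP1 (exIdeal sec io_sec Charts)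
open Groth.L13.PointBlow (mulI mulI_tens)

noncomputable section

namespace Groth.L13.PairBlow

variable {Y : Scheme.{u}}

/-- Tensoring with a finite locally free module is exact. -/
theorem shortExact_tensor {L : Y.Modules} (hL : FlatMod.IsFinLocFree L) {S : ShortComplex Y.Modules}
    (hS : S.ShortExact) : (S.map (tensorRightF L)).ShortExact := by
  refine (ShortComplex.shortExact_iff_of_iso ?_).2
    (Groth.L16.FrameIso.shortExact_tensor_left (Groth.L29.DC.isFlat_of_isFinLocFree hL) S hS)
  refine ShortComplex.isoMk ((Groth.L00.Tensor.tensorFlipIso L).app S.X₁)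
    ((Groth.L00.Tensor.tensorFlipIso L).app S.X₂) ((Groth.L00.Tensor.tensorFlipIso L).app S.X₃) ?_ ?_
  · exact (congrArg (_ ≫ ·) (Groth.L03.Euler.tensorBi_obj_map L S.f)).trans
      ((Groth.L00.Tensor.tensorFlipIso L).hom.naturality S.f).symm
  · exact (congrArg (_ ≫ ·) (Groth.L03.Euler.tensorBi_obj_map L S.g)).trans
      ((Groth.L00.Tensor.tensorFlipIso L).hom.naturality S.g).symm

/-- `i_* i^* M` as the cokernel of multiplication by the ideal. -/
theorem exists_seq (I : Y.IdealSheafData) {M : Y.Modules} (hM : FlatMod.IsFinLocFree M) :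
    ∃ S : ShortComplex Y.Modules, S.ShortExact ∧
      ∃ (e₁ : S.X₁ ≅ CohB1.tensorMod (ClSub.idealMod I) M) (e₂ : S.X₂ ≅ M),
        S.f = e₁.hom ≫ mulI I M ≫ e₂.inv ∧
        Nonempty (S.X₃ ≅ (Scheme.Modules.pushforward I.subschemeι).obj
          ((Scheme.Modules.pullback I.subschemeι).obj M)) := by
  refine ⟨_, shortExact_tensor hM (Groth.L21.RR.shortExact_idealSeq I), Iso.refl _, tensorUnitLeft M, ?_, ?_⟩
  · simp only [mulI, Category.assoc, Iso.hom_inv_id, Category.comp_id, Iso.refl_hom]
    exact (Category.id_comp _).symm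
  · exact ⟨Groth.L00.Tensor.tensorComm (ClSub.quotMod I) M ≪≫
      (Groth.L17.ProjFormula.projIso I.subschemeι M hM).app (Coh.structureModule I.subscheme) ≪≫
        (Scheme.Modules.pushforward I.subschemeι).mapIso (Groth.L00.Tensor.tensorUnitRight _)⟩

variable {A : Type u} [CommRing A] (f : Fin 2 → A) (σ : Y ⟶ Spec (CommRingCat.of A))

/-- Multiplication by the section `f i` of the exceptional ideal. -/
def secMap (M : Y.Modules) (i : Fin 2) : M ⟶ CohB1.tensorMod (ClSub.idealMod (exIdeal f σ)) M :=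
  (tensorUnitLeft M).inv ≫ (tensorRightF M).map (Groth.L16.homOfSection _ (sec f σ i))

/-- Multiplication by the function `f i`. -/
def smulF (M : Y.Modules) (i : Fin 2) : M ⟶ M :=
  (Groth.L17.CohSections.smulM (ProjUP.toGlobal σ (f i))).app M

theorem secMap_mulI (M : Y.Modules) (i : Fin 2) : secMap f σ M i ≫ mulI (exIdeal f σ) M = smulF f σ M i := by
  refine Scheme.Modules.hom_ext _ _ fun W => ConcreteCategory.hom_ext _ _ fun m => ?_
  have h1 : (tensorUnitLeft M).inv.app W m = tens (Coh.structureModule Y) M W (1 : Γ(Y, W)) m := by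
    have h := congrArg ((tensorUnitLeft M).inv.app W)
      (Groth.L22.Reg.tensorUnitLeft_tens M W (1 : Γ(Y, W)) m)
    rw [one_smul] at h
    rw [← h]
    exact congr(($((tensorUnitLeft M).hom_inv_id)).app W _)
  show (mulI (exIdeal f σ) M).app W
      (((tensorRightF M).map (Groth.L16.homOfSection _ (sec f σ i))).app W ((tensorUnitLeft M).inv.app W m)) =
    (show Γ(Y, W) from Coh.resTop Y (op W) (ProjUP.toGlobal σ (f i))) • m
  rw [h1]
  refine (congrArg ((mulI (exIdeal f σ) M).app W) (Groth.L16.HomSh.tensorMap_tens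
    (Groth.L16.homOfSection _ (sec f σ i)) (𝟙 M) W (1 : Γ(Y, W)) m)).trans ?_
  show (mulI (exIdeal f σ) M).app W (tens _ M W ((Groth.L16.homOfSection _ (sec f σ i)).app W (1 : Γ(Y, W))) m) = _
  rw [mulI_tens, Groth.L16.homOfSection_app, one_smul]
  exact congrArg (· • m) (io_sec f σ W i)

variable {f σ}

/-- The two sections generate. -/
theorem secHom_jointly_epi (hb : BlowUp.IsBlowUp σ (idealOf (sI f))) {G : Y.Modules}
    (g : ClSub.idealMod (exIdeal f σ) ⟶ G) (hg : ∀ i, Groth.L16.homOfSection _ (sec f σ i) ≫ g = 0) : g = 0 := by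
  have hinv : PicF.IsInvertible (ClSub.idealMod (exIdeal f σ)) :=
    (Groth.Agent.L19.IdealInvertible.isEffCartier_iff _).2 hb.1
  obtain ⟨C⟩ := Groth.L13.BlowP1.nonempty_charts hb
  refine Groth.L18.Ample.eq_zero_of_local g fun V s x hx => ?_
  obtain ⟨i, hi⟩ := C.cover x
  refine ⟨V ⊓ C.W i, inf_le_left, ⟨hx, hi⟩, ?_⟩
  obtain ⟨a, ha⟩ := (Groth.L13.BlowP1.frame_sec hinv C i).exists_coeff (inf_le_right : V ⊓ C.W i ≤ C.W i)
    (rs _ (inf_le_left : V ⊓ C.W i ≤ V) s)
  rw [rs_rs] at ha
  have h0 : g.app ⊤ (sec f σ i) = 0 := by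
    have h := congr(($(hg i)).app ⊤ (1 : Γ(Y, ⊤)))
    have h1 : (Groth.L16.homOfSection _ (sec f σ i)).app ⊤ (1 : Γ(Y, ⊤)) = sec f σ i := by
      rw [Groth.L16.homOfSection_app, one_smul]; exact rs_self _ _ _
    exact (congrArg (g.app ⊤) h1).symm.trans h
  rw [← ha, Scheme.Modules.Hom.app_smul, Groth.L18.Ample.hom_app_rs, h0]
  simp [rs]

/-- Multiplication by the two generators maps onto `I ⊗ M`. -/
theorem secMap_jointly_epi (hb : BlowUp.IsBlowUp σ (idealOf (sI f))) (M : Y.Modules) {G : Y.Modules}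
    (g : CohB1.tensorMod (ClSub.idealMod (exIdeal f σ)) M ⟶ G) (hg : ∀ i, secMap f σ M i ≫ g = 0) : g = 0 := by
  let ι : Type u := ULift.{u} (Fin 2)
  let h : ι → (Coh.structureModule Y ⟶ ClSub.idealMod (exIdeal f σ)) := fun i =>
    Groth.L16.homOfSection _ (sec f σ i.down)
  haveI : Epi (Sigma.desc h) := Preadditive.epi_of_cancel_zero _ fun {G} g hg =>
    secHom_jointly_epi hb g fun i => by
      have := congrArg (Sigma.ι (fun _ : ι => Coh.structureModule Y) (ULift.up i) ≫ ·) hg
      simpa only [← Category.assoc, Sigma.ι_desc, comp_zero] using this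
  haveI : PreservesColimitsOfSize.{u, u} (tensorRightF M) := Groth.L00.Tensor.preservesColimits_tensorRightF M
  haveI : Epi ((tensorRightF M).map (Sigma.desc h)) := inferInstance
  rw [← cancel_epi ((tensorRightF M).map (Sigma.desc h)), comp_zero]
  refine (isColimitOfPreserves (tensorRightF M) (coproductIsCoproduct fun _ : ι => Coh.structureModule Y)).hom_ext
    fun ⟨i⟩ => ?_
  rw [comp_zero, Functor.mapCocone_ι_app, ← Category.assoc, ← Functor.map_comp]
  show (tensorRightF M).map (Sigma.ι (fun _ : ι => Coh.structureModule Y) i ≫ Sigma.desc h) ≫ g = 0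
  rw [Sigma.ι_desc]
  have h0 := hg i.down
  rw [secMap, Category.assoc, ← cancel_epi (tensorUnitLeft M).hom, Iso.hom_inv_id_assoc, comp_zero] at h0
  exact h0

end Groth.L13.PairBlow
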