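import Groth.Agent.L13.PairBlow.Gen
import Groth.Agent.L18.RelAmpleCrit
import Groth.Agent.L17.ProperCoh
import Groth.Agent.L20.DescLocus.Main
import Groth.Agent.L21.Mod.Locality

/-!
# Blow-ups in centres cut out locally by two functions
-/

set_option autoImplicit false
set_option linter.style.haveILetI false
set_option backward.isDefEq.respectTransparency false

universe u

open CategoryTheory CategoryTheory.Limits AlgebraicGeometry TopologicalSpace Opposite
open Groth.L18.Frame (rs rs_rs rs_self)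
open Groth.L18.Ample (KillsGlobal eq_zero_of_local eq_zero_of_killsGlobal hom_app_rs)
open Groth.L11.BlowSmooth (sI)
open Groth.L13.BU (idealOf)
open Groth.L13.BlowP1 (exIdeal)
open Groth.L13.PointBlow (pre preι opensRange_preι)

noncomputable section

namespace Groth.L13.PairBlow

variable {X Y : Scheme.{u}} {σ : Y ⟶ X} {I : X.IdealSheafData}

/-- The centre is cut out by two functions near each of its points. -/
def LocallyPair (I : X.IdealSheafData) : Prop :=
  ∀ x ∈ I.support, ∃ (U : X.affineOpens) (f : Fin 2 → Γ(X, U.1)), x ∈ U.1 ∧ I.ideal U = sI f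

theorem isBlowUp_pre (hb : BlowUp.IsBlowUp σ I) (U : X.affineOpens) (f : Fin 2 → Γ(X, U.1))
    (hI : I.ideal U = sI f) : BlowUp.IsBlowUp (pullback.fst U.2.fromSpec σ) (idealOf (sI f)) := by
  rw [← hI, ← Groth.L11.BlowSmooth.comap_fromSpec]
  exact Groth.L13.BU.isBlowUp_pullback U.2.fromSpec hb

theorem exIdeal_pre (U : X.affineOpens) (f : Fin 2 → Γ(X, U.1)) (hI : I.ideal U = sI f) :
    exIdeal f (pullback.fst U.2.fromSpec σ) = (BlowUp.exceptional σ I).comap (preι σ U) := by
  rw [exIdeal, BlowUp.exceptional, ← hI, ← Groth.L11.BlowSmooth.comap_fromSpec,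
    ← Scheme.IdealSheafData.comap_comp, ← Scheme.IdealSheafData.comap_comp, pullback.condition]

/-- Global generation on the exceptional divisor restricts to a chart. -/
theorem gg_pullback_pre (U : X.affineOpens) (f : Fin 2 → Γ(X, U.1)) (hI : I.ideal U = sI f) {M : Y.Modules}
    (hgg : Curv2.IsGloballyGenerated ((Scheme.Modules.pullback (BlowUp.exceptional σ I).subschemeι).obj M)) :
    Curv2.IsGloballyGenerated ((Scheme.Modules.pullback (exIdeal f (pullback.fst U.2.fromSpec σ)).subschemeι).obj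
      ((Scheme.Modules.pullback (preι σ U)).obj M)) := by
  rw [exIdeal_pre U f hI]
  set E := BlowUp.exceptional σ I
  let j := (E.comapIso (preι σ U)).hom ≫ pullback.snd _ _
  have hj : j ≫ E.subschemeι = (E.comap (preι σ U)).subschemeι ≫ preι σ U := by
    simp only [j, Category.assoc, ← pullback.condition, Scheme.IdealSheafData.comapIso_hom_fst_assoc]
  exact Groth.L18.Ample.isGloballyGenerated_of_iso
    ((Scheme.Modules.pullbackComp j E.subschemeι).app M ≪≫ (Scheme.Modules.pullbackCongr hj).app M ≪≫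
      ((Scheme.Modules.pullbackComp _ (preι σ U)).app M).symm)
    (Groth.L13.PointBlow.gg_pullback j hgg)

variable [IsLocallyNoetherian X]

/-- Over a chart of the centre a module generated on the exceptional divisor is globally generated. -/
theorem gg_restrict_pre (hb : BlowUp.IsBlowUp σ I) (U : X.affineOpens) (f : Fin 2 → Γ(X, U.1))
    (hI : I.ideal U = sI f) {M : Y.Modules} (hM : FlatMod.IsFinLocFree M)
    (hgg : Curv2.IsGloballyGenerated ((Scheme.Modules.pullback (BlowUp.exceptional σ I).subschemeι).obj M)) :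
    Curv2.IsGloballyGenerated (M.restrict (preι σ U)) := by
  haveI : IsNoetherianRing Γ(X, U.1) := IsLocallyNoetherian.component_noetherian U
  exact Groth.L18.Ample.isGloballyGenerated_of_iso ((Scheme.Modules.restrictFunctorIsoPullback (preι σ U)).app M).symm
    (isGloballyGenerated_of_exc (isBlowUp_pre hb U f hI)
      (Groth.L20.DescLocus.isFinLocFree_pullback (preι σ U) hM) (gg_pullback_pre U f hI hgg))

/-- Over a chart of the centre a module generated on the exceptional divisor has no higher cohomology. -/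
theorem subsingleton_HH_pre (hb : BlowUp.IsBlowUp σ I) (U : X.affineOpens) (f : Fin 2 → Γ(X, U.1))
    (hI : I.ideal U = sI f) {M : Y.Modules} (hM : FlatMod.IsFinLocFree M)
    (hgg : Curv2.IsGloballyGenerated ((Scheme.Modules.pullback (BlowUp.exceptional σ I).subschemeι).obj M))
    (q : ℕ) : Subsingleton (Coh.HH (pre σ U) (M.restrict (preι σ U)) (q + 1)) := by
  haveI : IsNoetherianRing Γ(X, U.1) := IsLocallyNoetherian.component_noetherian U
  haveI : Coh.IsQCoh M := Groth.L29.DC.PCQCoh.isQCoh_of_isFinLocFree hM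
  haveI : Coh.IsQCoh (M.restrict (preι σ U)) := Scheme.Modules.isQuasicoherent_restrictFunctor _ M
  rcases q with _ | q
  · exact Groth.L14.LocHilbLift.subsingleton_HH_of_iso
      ((Scheme.Modules.restrictFunctorIsoPullback (preι σ U)).app M).symm 1
      (subsingleton_H1 (isBlowUp_pre hb U f hI)
        (Groth.L20.DescLocus.isFinLocFree_pullback (preι σ U) hM) (gg_pullback_pre U f hI hgg))
  · exact subsingleton_H_ge_two (isBlowUp_pre hb U f hI) _ _ (by omega)

omit [IsLocallyNoetherian X] in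
theorem isAffineOpen_preimage_off (hb : BlowUp.IsBlowUp σ I) {V : X.Opens} (hV : IsAffineOpen V)
    (hVI : V ≤ I.support.compl) : IsAffineOpen (σ ⁻¹ᵁ V) := by
  haveI := Groth.L22.Ideals.isIso_restrict_compl hb
  let C : X.Opens := I.support.compl
  have h1 : IsAffineOpen (C.ι ⁻¹ᵁ V) :=
    hV.preimage_of_isOpenImmersion C.ι (by rwa [Scheme.Opens.opensRange_ι])
  have h2 := (h1.preimage_of_isIso (σ ∣_ C)).image_of_isOpenImmersion (σ ⁻¹ᵁ C).ι
  have e : (σ ⁻¹ᵁ C).ι ''ᵁ ((σ ∣_ C) ⁻¹ᵁ (C.ι ⁻¹ᵁ V)) = σ ⁻¹ᵁ V := by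
    rw [← Scheme.Hom.comp_preimage, morphismRestrict_ι, Scheme.Hom.comp_preimage,
      Scheme.Hom.image_preimage_eq_opensRange_inf, Scheme.Opens.opensRange_ι]
    exact inf_eq_right.2 (σ.preimage_mono hVI)
  exact e ▸ h2

omit [IsLocallyNoetherian X] in
/-- The counit is epi when the module is globally generated over the preimages of a cover. -/
theorem epi_counit_of_cover (M : Y.Modules)
    (h : ∀ y : Y, ∃ (P : Scheme.{u}) (j : P ⟶ Y) (_ : IsOpenImmersion j) (V : X.Opens),
      y ∈ j.opensRange ∧ j.opensRange = σ ⁻¹ᵁ V ∧ Curv2.IsGloballyGenerated (M.restrict j)) :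
    Epi ((Scheme.Modules.pullbackPushforwardAdjunction σ).counit.app M) := by
  refine Preadditive.epi_of_cancel_zero _ fun {G : Y.Modules} (g : M ⟶ G) hg => ?_
  have h1 : (Scheme.Modules.pushforward σ).map g = 0 := by
    let adj := Scheme.Modules.pullbackPushforwardAdjunction σ
    have h2 : adj.homEquiv _ _ (adj.counit.app M ≫ g) = (Scheme.Modules.pushforward σ).map g := by
      rw [Adjunction.homEquiv_unit, Functor.map_comp, ← Category.assoc]
      erw [adj.right_triangle_components]
      exact Category.id_comp _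
    rw [← h2, hg, Adjunction.homEquiv_unit, Functor.map_zero, comp_zero]
  refine eq_zero_of_local g fun W s z hz => ?_
  obtain ⟨P, j, hj, V, hzj, hjV, hgg⟩ := h z
  have hle : j ''ᵁ ⊤ = σ ⁻¹ᵁ V := by rw [Scheme.Hom.image_top_eq_opensRange, hjV]
  have hA := eq_zero_of_killsGlobal hgg ((Scheme.Modules.restrictFunctor j).map g) fun t => by
    have h2 : g.app (σ ⁻¹ᵁ V) (rs M hle.ge t) = 0 := congr(($h1).app V (rs M hle.ge t))
    rw [hom_app_rs] at h2
    exact Groth.L18.Ample.eq_zero_of_rs_eq_zero G hle.ge _ hle.le h2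
  refine ⟨j ''ᵁ (j ⁻¹ᵁ W), ?_, ?_, ?_⟩
  · rintro _ ⟨w, hw, rfl⟩
    exact hw
  · obtain ⟨w, hw⟩ := hzj
    exact ⟨w, show j w ∈ W by rw [hw]; exact hz, hw⟩
  · exact congr(($hA).app (j ⁻¹ᵁ W) _)

/-- Generated on the exceptional divisor implies generated by the direct image. -/
theorem epi_counit (hb : BlowUp.IsBlowUp σ I) (hp : LocallyPair I) {M : Y.Modules} (hM : FlatMod.IsFinLocFree M)
    (hgg : Curv2.IsGloballyGenerated ((Scheme.Modules.pullback (BlowUp.exceptional σ I).subschemeι).obj M)) :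
    Epi ((Scheme.Modules.pullbackPushforwardAdjunction σ).counit.app M) := by
  haveI : Coh.IsQCoh M := Groth.L29.DC.PCQCoh.isQCoh_of_isFinLocFree hM
  refine epi_counit_of_cover M fun y => ?_
  by_cases hy : σ y ∈ I.support
  · obtain ⟨U, f, hyU, hI⟩ := hp _ hy
    exact ⟨_, preι σ U, inferInstance, U.1, (opensRange_preι σ U).ge hyU, opensRange_preι σ U,
      gg_restrict_pre hb U f hI hM hgg⟩
  · obtain ⟨V, hV, hyV, hVI⟩ :=
      exists_isAffineOpen_mem_and_subset (x := σ y) (U := I.support.compl) hy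
    have hA := isAffineOpen_preimage_off hb hV hVI
    haveI : IsAffine (σ ⁻¹ᵁ V).toScheme := hA
    haveI : Coh.IsQCoh (M.restrict (σ ⁻¹ᵁ V).ι) := Scheme.Modules.isQuasicoherent_restrictFunctor _ M
    exact ⟨_, (σ ⁻¹ᵁ V).ι, inferInstance, V, by rw [Scheme.Opens.opensRange_ι]; exact hyV,
      Scheme.Opens.opensRange_ι _, Groth.L18.Ample.isGloballyGenerated_of_isQuasiAffine _⟩

attribute [local instance] Groth.L17.PushQCoh.additive_push

omit [IsLocallyNoetherian X] in
theorem isZero_spec {R : CommRingCat.{u}} (N : (Spec R).Modules) [N.IsQuasicoherent]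
    (h : Subsingleton ↑((moduleSpecΓFunctor (R := R)).obj N)) : IsZero N := by
  have h0 : IsZero ((moduleSpecΓFunctor (R := R)).obj N) := ModuleCat.isZero_of_subsingleton _
  exact (Functor.map_isZero (tilde.functor R) h0).of_iso (Groth.L18.TildeF.counitIso N).symm

/-- Vanishing on the charts at the centre implies no higher direct images. -/
theorem isZero_Rpush_of_charts (hb : BlowUp.IsBlowUp σ I) (hp : LocallyPair I) [QuasiCompact σ] [QuasiSeparated σ]
    [HasInjectiveResolutions Y.Modules] (M : Y.Modules) [Coh.IsQCoh M]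
    (hv : ∀ (U : X.affineOpens) (f : Fin 2 → Γ(X, U.1)), I.ideal U = sI f → ∀ q : ℕ,
      Subsingleton (Coh.HH (pre σ U) (M.restrict (preι σ U)) (q + 1)))
    (i : ℕ) (hi : 0 < i) : IsZero ((Coh.Rpush σ i).obj M) := by
  obtain ⟨q, rfl⟩ : ∃ q, i = q + 1 := ⟨i - 1, by omega⟩
  have key : ∀ x : X, ∃ U : X.affineOpens, x ∈ U.1 ∧
      Subsingleton (Coh.HH (pre σ U) (M.restrict (preι σ U)) (q + 1)) := by
    intro x
    by_cases hx : x ∈ I.support
    · obtain ⟨U, f, hxU, hI⟩ := hp _ hx
      exact ⟨U, hxU, hv U f hI q⟩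
    · obtain ⟨V, hV, hxV, hVI⟩ := exists_isAffineOpen_mem_and_subset (x := x) (U := I.support.compl) hx
      refine ⟨⟨V, hV⟩, hxV, ?_⟩
      haveI : Coh.IsQCoh (M.restrict (preι σ ⟨V, hV⟩)) := Scheme.Modules.isQuasicoherent_restrictFunctor _ M
      have hT : IsAffineOpen (⊤ : (pre σ ⟨V, hV⟩).Opens) := by
        have h := (isAffineOpen_preimage_off hb hV hVI).preimage_of_isOpenImmersion (preι σ ⟨V, hV⟩)
          (opensRange_preι σ ⟨V, hV⟩).ge
        rwa [show preι σ ⟨V, hV⟩ ⁻¹ᵁ (σ ⁻¹ᵁ V) = ⊤ from eq_top_iff.2 fun w _ =>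
          (opensRange_preι σ ⟨V, hV⟩).le ⟨w, rfl⟩] at h
      exact @Equiv.subsingleton _ _ (Groth.L17.hTopEquiv (X := (pre σ ⟨V, hV⟩).toTopCat) _ (q + 1)).toEquiv
        (subsingleton_of_forall_eq 0 (Groth.L17.hu_affine_eq_zero _ hT q))
  choose U hxU hU using key
  refine Groth.L21.Mod.isZero_of_restrict (fun x : X => (U x).2.fromSpec)
    (fun x => ⟨x, (U x).2.range_fromSpec.ge (hxU x)⟩) _ fun x => ?_
  haveI := Groth.L17.PushQCoh.hasInjectiveResolutions (pre σ (U x))
  obtain ⟨e⟩ := Groth.L17.PushQCoh.nonempty_Rpush_restrict_iso σ (U x).2.fromSpec (preι σ (U x))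
    (pullback.fst _ σ) (by rw [(U x).2.opensRange_fromSpec, opensRange_preι]) pullback.condition M (q + 1)
  haveI : Coh.IsQCoh (M.restrict (preι σ (U x))) := Scheme.Modules.isQuasicoherent_restrictFunctor _ M
  haveI := Groth.L17.PushQCoh.isQCoh_Rpush (pullback.fst (U x).2.fromSpec σ) (M.restrict (preι σ (U x))) (q + 1)
  refine (isZero_spec _ ?_).of_iso e
  obtain ⟨ε⟩ := Groth.L17.ProperCoh.nonempty_Γ_Rpush_equiv (pullback.fst (U x).2.fromSpec σ)
    (M.restrict (preι σ (U x))) (q + 1)
  haveI := hU x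
  exact ε.symm.toEquiv.subsingleton

/-- Generated on the exceptional divisor implies no higher direct images. -/
theorem isZero_Rpush (hb : BlowUp.IsBlowUp σ I) (hp : LocallyPair I) [QuasiCompact σ] [QuasiSeparated σ]
    [HasInjectiveResolutions Y.Modules] {M : Y.Modules} (hM : FlatMod.IsFinLocFree M)
    (hgg : Curv2.IsGloballyGenerated ((Scheme.Modules.pullback (BlowUp.exceptional σ I).subschemeι).obj M))
    (i : ℕ) (hi : 0 < i) : IsZero ((Coh.Rpush σ i).obj M) :=
  haveI : Coh.IsQCoh M := Groth.L29.DC.PCQCoh.isQCoh_of_isFinLocFree hM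
  isZero_Rpush_of_charts hb hp M (fun U f hI q => subsingleton_HH_pre hb U f hI hM hgg q) i hi

end Groth.L13.PairBlow
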