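import Groth.Agent.L13.PairBlow.Extend
import Groth.Agent.L13.PairBlow.Local
import Groth.Agent.L17.BC.Sheaf
import Groth.Agent.L29.DCoh.PullTensor
import Groth.Agent.L22.Ideal

/-!
# Sections extend across the exceptional divisor: transfer to the charts
-/

set_option autoImplicit false
set_option linter.style.haveILetI false
set_option backward.isDefEq.respectTransparency false

universe u

open CategoryTheory CategoryTheory.Limits AlgebraicGeometry TopologicalSpace Opposite
open Groth.L18.Frame (rs ro rs_rs rs_self)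
open Groth.L18.Ample (hom_app_rs)
open Groth.L11.BlowSmooth (sI)
open Groth.L13.BlowP1 (exIdeal)
open Groth.L13.PointBlow (pre preι opensRange_preι)
open Groth.Agent.L19.IdealInvertible (io io_inj)

noncomputable section

namespace Groth.L13.PairBlow

/-- The structure sheaf restricts to open subschemes, by `appIso`. -/
theorem exists_restrict_structure {X' X : Scheme.{u}} (j : X' ⟶ X) [IsOpenImmersion j] :
    ∃ e : (Coh.structureModule X).restrict j ⟶ Coh.structureModule X', IsIso e ∧
      ∀ (V : X'.Opens) (x : Γ(X, j ''ᵁ V)), (show Γ(X', V) from e.app V x) = (j.appIso V).hom x := by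
  have hnat : ∀ {V W : X'.Opens} (i : W ≤ V) (x : Γ(X, j ''ᵁ V)),
      (j.appIso W).hom (X.presheaf.map (homOfLE (j.image_mono i)).op x) =
        X'.presheaf.map (homOfLE i).op ((j.appIso V).hom x) := fun i x =>
    congr($(show X.presheaf.map (homOfLE (j.image_mono i)).op ≫ (j.appIso _).hom =
      (j.appIso _).hom ≫ X'.presheaf.map (homOfLE i).op by
        simp only [Scheme.Hom.appIso_hom', Scheme.Hom.appLE_map, Scheme.Hom.map_appLE]) x)
  let e : (Coh.structureModule X).restrict j ⟶ Coh.structureModule X' := ⟨PresheafOfModules.homMk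
    { app := fun V => AddCommGrpCat.ofHom (AddMonoidHom.mk'
        (fun x : Γ(X, j ''ᵁ V.unop) => ((j.appIso V.unop).hom x : Γ(X', V.unop))) (fun x y => map_add _ x y))
      naturality := fun {V W} i => by
        ext x
        exact hnat i.unop.le x }
    (fun V r x => by
      show (j.appIso V.unop).hom ((j.appIso V.unop).inv r * (show Γ(X, j ''ᵁ V.unop) from x)) =
        (show Γ(X', V.unop) from r) * (j.appIso V.unop).hom x
      rw [map_mul]
      exact congrArg (· * _) congr($((j.appIso V.unop).inv_hom_id) r))⟩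
  refine ⟨e, ?_, fun V x => rfl⟩
  rw [Scheme.Modules.Hom.isIso_iff_isIso_app]
  intro V
  rw [ConcreteCategory.isIso_iff_bijective]
  exact ConcreteCategory.bijective_of_isIso (j.appIso V).hom

/-- The ideal module restricts to open subschemes. -/
theorem nonempty_restrict_idealMod {X' X : Scheme.{u}} (j : X' ⟶ X) [IsOpenImmersion j] (I : X.IdealSheafData) :
    Nonempty ((ClSub.idealMod I).restrict j ≅ ClSub.idealMod (I.comap j)) := by
  obtain ⟨e, hei, he⟩ := exists_restrict_structure j
  let a : (ClSub.idealMod I).restrict j ⟶ Coh.structureModule X' :=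
    (Scheme.Modules.restrictFunctor j).map (ClSub.idealModι I) ≫ e
  haveI : Mono (ClSub.idealModι I) := inferInstanceAs (Mono (kernel.ι (ClSub.toSubscheme I)))
  haveI : Mono ((Scheme.Modules.restrictFunctor j).map (ClSub.idealModι I)) := inferInstance
  haveI : Mono a := mono_comp _ _
  have hmem : ∀ (V : X'.Opens) (hV : IsAffineOpen V) (r : Γ(X', V)),
      r ∈ (I.comap j).ideal ⟨V, hV⟩ ↔ ∃ m : Γ((ClSub.idealMod I).restrict j, V), (show Γ(X', V) from a.app V m) = r := by
    intro V hV r
    have hW := hV.image_of_isOpenImmersion j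
    rw [Scheme.IdealSheafData.ideal_comap_of_isOpenImmersion, Ideal.mem_comap,
      Groth.L18.IdealModule.mem_ideal_iff I hW]
    constructor
    · rintro ⟨m, hm⟩
      refine ⟨m, (he V _).trans ?_⟩
      refine (congrArg (j.appIso V).hom hm).trans ?_
      exact congr($((j.appIso V).inv_hom_id) r)
    · rintro ⟨m, hm⟩
      refine ⟨m, ?_⟩
      rw [← hm, show (show Γ(X', V) from a.app V m) = _ from he V _]
      exact (congr($((j.appIso V).hom_inv_id) _)).symm
  have hcond : a ≫ ClSub.toSubscheme (I.comap j) = 0 :=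
    Groth.L16.AffineBC.hom_ext_affine _ _ fun V hV m => by
      obtain ⟨n, hn⟩ := (Groth.L18.IdealModule.mem_ideal_iff (I.comap j) hV _).1 ((hmem V hV _).2 ⟨m, rfl⟩)
      show (ClSub.toSubscheme (I.comap j)).app V (a.app V m) = 0
      rw [show a.app V m = (ClSub.idealModι (I.comap j)).app V n from hn.symm]
      exact congr(($(kernel.condition (ClSub.toSubscheme (I.comap j)))).app V n)
  let ψ := kernel.lift (ClSub.toSubscheme (I.comap j)) a hcond
  have hψ : ∀ V m, io (I.comap j) V (ψ.app V m) = (show Γ(X', V) from a.app V m) := fun V m =>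
    congr(($(kernel.lift_ι (ClSub.toSubscheme (I.comap j)) a hcond)).app V m)
  haveI : IsIso ψ := Groth.L17.BC.Classes.isIso_of_affine ψ fun y => ⟨⊤, trivial, fun V _ hV => by
    refine ⟨fun m m' hmm => Groth.L17.CxTools.injective_app a V ?_, fun n => ?_⟩
    · exact ((hψ V m).symm.trans (congrArg (io _ V) hmm)).trans (hψ V m')
    · obtain ⟨m, hm⟩ := (hmem V hV (io (I.comap j) V n)).1
        ((Groth.L18.IdealModule.mem_ideal_iff (I.comap j) hV _).2 ⟨n, rfl⟩)
      exact ⟨m, io_inj _ V ((hψ V m).trans hm)⟩⟩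
  exact ⟨asIso ψ⟩

theorem bijective_rs_congr {Z : Scheme.{u}} (M : Z.Modules) {V W V' W' : Z.Opens} (hV : V = V') (hW : W = W')
    (h : V ≤ W) (h' : V' ≤ W') (hb : Function.Bijective (rs M h)) : Function.Bijective (rs M h') := by
  subst hV hW
  exact hb

variable {X Y : Scheme.{u}} {σ : Y ⟶ X} {I : X.IdealSheafData}

/-- A module without sections has no sections on a clopen. -/
theorem subsingleton_sections_clopen {E : Scheme.{u}} (G : E.Modules) [h : Subsingleton Γ(G, ⊤)] (O : E.Opens)
    (hO : IsClosed (O : Set E)) : Subsingleton Γ(G, O) := by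
  refine subsingleton_of_forall_eq (0 : Γ(G, O)) fun s => ?_
  let OG : TopCat.Sheaf Ab.{u} E.toTopCat := ⟨G.presheaf, G.isSheaf⟩
  let V : Fin 2 → E.Opens := ![O, ⟨(O : Set E)ᶜ, hO.isOpen_compl⟩]
  have hbot : ∀ {W : E.Opens}, W ≤ O → W ≤ V 1 → Subsingleton Γ(G, W) := fun h1 h2 =>
    Groth.L18.Ample.subsingleton_sections_bot G (eq_bot_iff.2 fun x hx => absurd (h1 hx) (h2 hx))
  let t : ∀ i, Γ(G, V i) := Fin.cons (show Γ(G, V 0) from s) fun i => 0
  obtain ⟨u, hu, -⟩ := OG.existsUnique_gluing' V ⊤ (fun i => homOfLE le_top)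
    (fun x _ => Opens.mem_iSup.2 (by by_cases hx : x ∈ O; exacts [⟨0, hx⟩, ⟨1, hx⟩]))
    t fun i j => by
      fin_cases i <;> fin_cases j
      · rfl
      · exact (hbot (W := V 0 ⊓ V 1) inf_le_left inf_le_right).elim _ _
      · exact (hbot (W := V 1 ⊓ V 0) inf_le_right inf_le_left).elim _ _
      · rfl
  refine (hu 0).symm.trans ?_
  rw [show u = 0 from h.elim _ _]
  exact map_zero _

/-- The hypothesis of negativity along the exceptional divisor. -/
def Neg (σ : Y ⟶ X) (I : X.IdealSheafData) (M : Y.Modules) : Prop :=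
  ∀ L : Y.Modules, ClSub.IsInverseOf L (ClSub.idealMod (BlowUp.exceptional σ I)) →
    Subsingleton (Coh.HH (BlowUp.exceptional σ I).subscheme
      ((Scheme.Modules.pullback (BlowUp.exceptional σ I).subschemeι).obj (CohB1.tensorMod M L)) 0)

theorem neg_pre (hb : BlowUp.IsBlowUp σ I) (hclop : ∀ U : X.Opens, IsClosed ((U : Set X) ∩ I.support))
    (U : X.affineOpens) (f : Fin 2 → Γ(X, U.1)) (hI : I.ideal U = sI f) {M : Y.Modules} (hneg : Neg σ I M) :
    ∀ L : (pre σ U).Modules, ClSub.IsInverseOf L (ClSub.idealMod (exIdeal f (pullback.fst U.2.fromSpec σ))) →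
      Subsingleton (Coh.HH (exIdeal f (pullback.fst U.2.fromSpec σ)).subscheme
        ((Scheme.Modules.pullback (exIdeal f (pullback.fst U.2.fromSpec σ)).subschemeι).obj
          (CohB1.tensorMod ((Scheme.Modules.pullback (preι σ U)).obj M) L)) 0) := by
  rw [exIdeal_pre U f hI]
  rintro L' ⟨eL'⟩
  set E := BlowUp.exceptional σ I
  obtain ⟨L, hL, ⟨e⟩⟩ := Groth.L08.Cube.exists_inverse
    ((Groth.Agent.L19.IdealInvertible.isEffCartier_iff _).2 hb.1)
  let eL := Groth.L00.Tensor.tensorComm L _ ≪≫ e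
  obtain ⟨eI⟩ := nonempty_restrict_idealMod (preι σ U) E
  let R := Scheme.Modules.pullback (preι σ U)
  let eL'' : CohB1.tensorMod (R.obj L) (ClSub.idealMod (E.comap (preι σ U))) ≅ Coh.structureModule _ :=
    Groth.L00.Tensor.tensorIso (Iso.refl _) (eI.symm ≪≫ (Scheme.Modules.restrictFunctorIsoPullback _).app _) ≪≫
      Groth.L29.DC.PullTensor.pullTensor (preι σ U) L _ ≪≫ R.mapIso eL ≪≫ Groth.L29.LocFree.pullbackUnitIso _
  obtain ⟨u⟩ := Groth.L13.PointBlow.inverse_unique eL' eL''
  let j := (E.comapIso (preι σ U)).hom ≫ pullback.snd _ _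
  have hj : j ≫ E.subschemeι = (E.comap (preι σ U)).subschemeι ≫ preι σ U := by
    simp only [j, Category.assoc, ← pullback.condition, Scheme.IdealSheafData.comapIso_hom_fst_assoc]
  let G := (Scheme.Modules.pullback E.subschemeι).obj (CohB1.tensorMod M L)
  haveI : Subsingleton Γ(G, ⊤) :=
    haveI := hneg L ⟨eL⟩
    (Groth.L16.HomSh.h0Equiv _).symm.toEquiv.subsingleton
  have hrange : j.opensRange = E.subschemeι ⁻¹ᵁ (σ ⁻¹ᵁ U.1) := by
    rw [Scheme.Hom.opensRange_comp_of_isIso, Scheme.Hom.opensRange_pullbackSnd, opensRange_preι]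
  have hclosed : IsClosed (j.opensRange : Set E.subscheme) := by
    rw [hrange]
    have h1 : ((E.subschemeι ⁻¹ᵁ (σ ⁻¹ᵁ U.1)) : Set E.subscheme) =
        (E.subschemeι ≫ σ) ⁻¹' ((U.1 : Set X) ∩ I.support) := by
      ext z
      refine ⟨fun hz => ⟨hz, ?_⟩, fun hz => hz.1⟩
      have h2 : E.subschemeι z ∈ (E.support : Set Y) := by
        rw [← Scheme.IdealSheafData.range_subschemeι]; exact ⟨z, rfl⟩
      exact (Scheme.IdealSheafData.support_comap I σ).le h2
    rw [h1]
    exact (hclop U.1).preimage (E.subschemeι ≫ σ).continuous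
  haveI := subsingleton_sections_clopen G j.opensRange hclosed
  haveI : Subsingleton Γ(G.restrict j, ⊤) := by
    show Subsingleton Γ(G, j ''ᵁ ⊤)
    rw [Scheme.Hom.image_top_eq_opensRange]
    infer_instance
  let ε : (Scheme.Modules.pullback (E.comap (preι σ U)).subschemeι).obj (CohB1.tensorMod (R.obj M) L') ≅
      G.restrict j :=
    (Scheme.Modules.pullback _).mapIso (Groth.L00.Tensor.tensorIso (Iso.refl _) u ≪≫
      Groth.L29.DC.PullTensor.pullTensor (preι σ U) M L) ≪≫
      (Scheme.Modules.pullbackComp _ (preι σ U)).app _ ≪≫ (Scheme.Modules.pullbackCongr hj.symm).app _ ≪≫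
      ((Scheme.Modules.pullbackComp j E.subschemeι).app _).symm ≪≫
      ((Scheme.Modules.restrictFunctorIsoPullback j).app G).symm
  refine @Equiv.subsingleton _ _ (Groth.L16.HomSh.h0Equiv _).toEquiv ?_
  exact Function.Injective.subsingleton (f := ε.hom.app ⊤) (Groth.L17.CxTools.injective_app _ ⊤)

theorem preι_preimage_basicOpen (U : X.affineOpens) (a : Γ(X, U.1)) :
    preι σ U ⁻¹ᵁ (σ ⁻¹ᵁ X.basicOpen a) =
      (pre σ U).basicOpen (ProjUP.toGlobal (pullback.fst U.2.fromSpec σ) a) := by
  rw [← Scheme.Hom.comp_preimage, ← pullback.condition, Scheme.Hom.comp_preimage,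
    U.2.fromSpec_preimage_basicOpen, ← basicOpen_eq_of_affine]
  exact Scheme.preimage_basicOpen _ _

/-- Sections over a chart are sections off the centre. -/
theorem bijective_rs_chart [IsLocallyNoetherian X] (hb : BlowUp.IsBlowUp σ I)
    (hclop : ∀ U : X.Opens, IsClosed ((U : Set X) ∩ I.support))
    (U : X.affineOpens) (f : Fin 2 → Γ(X, U.1)) (hI : I.ideal U = sI f) {M : Y.Modules}
    (hM : FlatMod.IsFinLocFree M) (hneg : Neg σ I M) :
    Function.Bijective (rs M (σ.preimage_mono (sup_le (X.basicOpen_le (f 0)) (X.basicOpen_le (f 1))) :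
      σ ⁻¹ᵁ (X.basicOpen (f 0) ⊔ X.basicOpen (f 1)) ≤ σ ⁻¹ᵁ U.1)) := by
  haveI : IsNoetherianRing Γ(X, U.1) := IsLocallyNoetherian.component_noetherian U
  let M' := (Scheme.Modules.pullback (preι σ U)).obj M
  have h := bijective_rs_off (isBlowUp_pre hb U f hI) (M := M')
    (Groth.L20.DescLocus.isFinLocFree_pullback (preι σ U) hM) (neg_pre hb hclop U f hI hneg)
  let e := (Scheme.Modules.restrictFunctorIsoPullback (preι σ U)).app M
  set O := off f (pullback.fst U.2.fromSpec σ)
  have h1 : preι σ U ''ᵁ ⊤ = σ ⁻¹ᵁ U.1 := by rw [Scheme.Hom.image_top_eq_opensRange, opensRange_preι]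
  have h2 : preι σ U ''ᵁ O = σ ⁻¹ᵁ (X.basicOpen (f 0) ⊔ X.basicOpen (f 1)) := by
    have h3 : O = preι σ U ⁻¹ᵁ (σ ⁻¹ᵁ (X.basicOpen (f 0) ⊔ X.basicOpen (f 1))) := by
      rw [Scheme.Hom.preimage_sup, Scheme.Hom.preimage_sup, preι_preimage_basicOpen, preι_preimage_basicOpen]
    rw [h3, Scheme.Hom.image_preimage_eq_opensRange_inf, opensRange_preι]
    exact inf_eq_right.2 (σ.preimage_mono (sup_le (X.basicOpen_le (f 0)) (X.basicOpen_le (f 1))))
  have h4 : Function.Bijective (rs (M.restrict (preι σ U)) (le_top : O ≤ ⊤)) := by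
    have hcomm : e.hom.app O ∘ rs (M.restrict (preι σ U)) (le_top : O ≤ ⊤) =
        (fun t : Γ(M', ⊤) => rs M' (le_top : O ≤ ⊤) t) ∘ e.hom.app ⊤ :=
      funext fun t => hom_app_rs e.hom le_top t
    have hb' : ∀ V, Function.Bijective (e.hom.app V) := fun V => ConcreteCategory.bijective_of_isIso _
    refine (Function.Bijective.of_comp_iff' (hb' O) _).1 ?_
    rw [hcomm]
    exact h.comp (hb' ⊤)
  have h5 : Function.Bijective (rs M ((preι σ U).image_mono (le_top : O ≤ ⊤))) := h4
  exact bijective_rs_congr M h2 h1 _ _ h5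

end Groth.L13.PairBlow
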