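import Groth.Agent.L13.PairBlow.CounitMono
import Groth.Agent.L03.BlowPt.Pair
import Groth.Agent.S1617
import Groth.Agent.S2768
import Groth.Agent.L03.FtPts
import Groth.Agent.L03.FibreLocalDim
import Groth.Agent.L21.Smooth.Scheme

/-!
# Finite sets of closed points on smooth surfaces
-/

set_option autoImplicit false
set_option linter.style.haveILetI false
set_option backward.isDefEq.respectTransparency false

universe u

open CategoryTheory CategoryTheory.Limits AlgebraicGeometry TopologicalSpace Opposite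
open Groth.L11.BlowSmooth (sI)
open Groth.L03.BlowPt (ptI)

noncomputable section

namespace Groth.L13.PairBlow

/-- Closed points of smooth surfaces over a field have two-dimensional local rings. -/
theorem ringKrullDim_stalk_smooth {k : Type u} [Field k] (X : Scheme.{u}) [X.Over (Spec (CommRingCat.of k))]
    [SmoothOfRelativeDimension 2 (X ↘ Spec (CommRingCat.of k))] (x : X) (hx : IsClosed ({x} : Set X)) :
    ringKrullDim (X.presheaf.stalk x) = (2 : ℕ) := by
  haveI : Smooth (X ↘ Spec (CommRingCat.of k)) := SmoothOfRelativeDimension.smooth 2 _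
  let q := X ↘ Spec (CommRingCat.of k)
  rw [← Groth.Agent.S1617.result k X x hx]
  haveI : IsIso ((Spec (CommRingCat.of k)).fromSpecResidueField (q x)) :=
    Groth.L03.FtPts.isIso_fromSpecResidueField_field k (q x)
  haveI : IsIso (q.fiberι (q x)) :=
    inferInstanceAs (IsIso (pullback.fst q ((Spec (CommRingCat.of k)).fromSpecResidueField (q x))))
  have h := Groth.L03.FibreLocalDim.localDim_homeomorph (q.fiberι (q x)).homeomorph (q.asFiber x)
  rw [show (q.fiberι (q x)).homeomorph (q.asFiber x) = x from q.fiberι_asFiber x] at h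
  rw [h]
  exact Groth.Agent.S2768.result 2 q x

variable {X : Scheme.{u}} [IsLocallyNoetherian X]

/-- The reduced ideal of a finite set of regular closed points of dimension two. -/
theorem goodCentre_vanishingIdeal {Z : Set X} (hZ : IsClosed Z) (hfin : Z.Finite)
    (hpt : ∀ x ∈ Z, IsClosed ({x} : Set X))
    (hreg : ∀ x ∈ Z, IsRegularLocalRing (X.presheaf.stalk x))
    (hdim : ∀ x ∈ Z, ringKrullDim (X.presheaf.stalk x) = (2 : ℕ)) :
    GoodCentre (Scheme.IdealSheafData.vanishingIdeal ⟨Z, hZ⟩) := by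
  have hsupp : ∀ x, x ∈ (Scheme.IdealSheafData.vanishingIdeal ⟨Z, hZ⟩).support ↔ x ∈ Z := fun x => by simp [← SetLike.mem_coe]
  have hclosed : ∀ S ⊆ Z, IsClosed S := fun S hS => by
    rw [← Set.biUnion_of_singleton S]
    exact (hfin.subset hS).isClosed_biUnion fun x hx => hpt x (hS hx)
  refine ⟨fun U => hclosed _ fun x hx => (hsupp x).1 hx.2, fun x hx => hreg x ((hsupp x).1 hx),
    fun x hx => (hdim x ((hsupp x).1 hx)).le, fun x hx => ?_⟩
  replace hx := (hsupp x).1 hx
  let hx1 := hpt x hx
  haveI := hreg x hx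
  obtain ⟨U, f, hxU, -, hI⟩ := Groth.L03.BlowPt.exists_pair hx1 (hreg x hx) (hdim x hx)
  let R : X.Opens := ⟨(Z \ {x})ᶜ, (hclosed _ Set.sdiff_subset).isOpen_compl⟩
  obtain ⟨g, hgle, hxg⟩ := U.2.exists_basicOpen_le (V := R) ⟨x, fun h => h.2 rfl⟩ hxU
  let W : X.affineOpens := X.affineBasicOpen g
  have hWU : W.1 ≤ U.1 := X.basicOpen_le g
  let f' : Fin 2 → Γ(X, W.1) := fun i => X.presheaf.map (homOfLE hWU).op (f i)
  have hI' : (Scheme.IdealSheafData.vanishingIdeal ⟨Z, hZ⟩).ideal W = sI f' := by
    have h1 : (ptI hx1).ideal W = sI f' := by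
      rw [show (ptI hx1).ideal W = _ from ((ptI hx1).map_ideal_basicOpen U g).symm, hI, sI, Ideal.map_span,
        ← Set.range_comp]
      rfl
    rw [← h1]
    show PrimeSpectrum.vanishingIdeal (W.2.fromSpec ⁻¹' Z) = PrimeSpectrum.vanishingIdeal (W.2.fromSpec ⁻¹' {x})
    congr 1
    ext p
    simp only [Set.mem_preimage, Set.mem_singleton_iff]
    refine ⟨fun h => by_contra fun hne => ?_, fun h => h ▸ hx⟩
    exact (hgle (W.2.opensRange_fromSpec.le ⟨p, rfl⟩) : W.2.fromSpec p ∈ (Z \ {x})ᶜ) ⟨h, hne⟩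
  refine ⟨W, f', hxg, hI', fun h0 => ?_⟩
  have hmax : IsLocalRing.maximalIdeal (X.presheaf.stalk x) = Ideal.span {X.presheaf.germ U.1 x hxU (f 1)} := by
    letI := X.presheaf.algebra_section_stalk ⟨x, hxU⟩
    haveI := U.2.isLocalization_stalk ⟨x, hxU⟩
    rw [← IsLocalization.AtPrime.map_eq_maximalIdeal (U.2.primeIdealOf ⟨x, hxU⟩).asIdeal (X.presheaf.stalk x),
      ← Groth.L03.BlowPt.ideal_ptI hx1 U hxU, hI, sI, Ideal.map_span, ← Set.range_comp]
    refine le_antisymm (Ideal.span_le.2 ?_) (Ideal.span_le.2 ?_)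
    · rintro _ ⟨i, rfl⟩
      fin_cases i
      · rw [show (X.presheaf.germ W.1 x hxg (f' 0)) = _ from
          TopCat.Presheaf.germ_res_apply X.presheaf (homOfLE hWU) x hxg (f 0)] at h0
        show X.presheaf.germ U.1 x hxU (f 0) ∈ _
        rw [h0]
        exact zero_mem _
      · exact Ideal.subset_span rfl
    · rintro _ rfl
      exact Ideal.subset_span ⟨1, rfl⟩
  have h1 : (IsLocalRing.maximalIdeal (X.presheaf.stalk x)).spanFinrank ≤ 1 := by
    rw [hmax]
    exact (Submodule.spanFinrank_span_le_ncard_of_finite (Set.finite_singleton _)).trans (Set.ncard_singleton _).le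
  have h2 := IsRegularLocalRing.spanFinrank_maximalIdeal (R := X.presheaf.stalk x)
  rw [hdim x hx] at h2
  have : (IsLocalRing.maximalIdeal (X.presheaf.stalk x)).spanFinrank = 2 := by exact_mod_cast h2
  omega

variable {Y : Scheme.{u}} {σ : Y ⟶ X} {I : X.IdealSheafData}

omit [IsLocallyNoetherian X] in
theorem isLocallyNoetherian_over {k : Type u} [Field k] (X : Scheme.{u}) [X.Over (Spec (CommRingCat.of k))]
    [LocallyOfFiniteType (X ↘ Spec (CommRingCat.of k))] : IsLocallyNoetherian X :=
  LocallyOfFiniteType.isLocallyNoetherian (X ↘ Spec (CommRingCat.of k))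

/-- Direct images of locally free modules have no sections supported in a point. -/
theorem subsingleton_hom_skyscraper (hb : BlowUp.IsBlowUp σ I) (hp : LocallyPair I) {M : Y.Modules}
    (hM : FlatMod.IsFinLocFree M) (x : X) (hxc : IsClosed ({x} : Set X)) (hx : x ∈ I.support) :
    Subsingleton ((Scheme.Modules.pushforward (X.fromSpecResidueField x)).obj
      (Coh.structureModule (Spec (X.residueField x))) ⟶ (Scheme.Modules.pushforward σ).obj M) := by
  refine subsingleton_of_forall_eq 0 fun φ => ?_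
  refine Scheme.Modules.hom_ext _ _ fun W => ConcreteCategory.hom_ext _ _ fun t => ?_
  refine eq_zero_of_germs hb hp hM (show Γ(M, σ ⁻¹ᵁ W) from φ.app W t) fun z hz hzI => ?_
  let W' : X.Opens := W ⊓ ⟨{x}ᶜ, hxc.isOpen_compl⟩
  have hzW' : z ∈ σ ⁻¹ᵁ W' := ⟨hz, fun h => hzI (by rw [Set.mem_singleton_iff.1 h]; exact hx)⟩
  have hbot : (X.fromSpecResidueField x) ⁻¹ᵁ W' = ⊥ := by
    refine eq_bot_iff.2 fun p hp => ?_
    exact absurd (Scheme.fromSpecResidueField_apply x p) hp.2
  haveI : Subsingleton Γ(Coh.structureModule (Spec (X.residueField x)), (X.fromSpecResidueField x) ⁻¹ᵁ W') :=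
    Groth.L18.Ample.subsingleton_sections_bot _ hbot
  have h0 : Groth.L18.Frame.rs ((Scheme.Modules.pushforward σ).obj M) (inf_le_left : W' ≤ W) (φ.app W t) = 0 := by
    rw [← Groth.L18.Ample.hom_app_rs φ (inf_le_left : W' ≤ W) t,
      show Groth.L18.Frame.rs ((Scheme.Modules.pushforward (X.fromSpecResidueField x)).obj
        (Coh.structureModule (Spec (X.residueField x)))) (inf_le_left : W' ≤ W) t = 0 from
        @Subsingleton.elim _ (show Subsingleton Γ((Scheme.Modules.pushforward (X.fromSpecResidueField x)).obj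
          (Coh.structureModule (Spec (X.residueField x))), W') from this) _ _]
    exact map_zero _
  rw [← Groth.L20.ModStalk.germ_rs M (σ.preimage_mono (inf_le_left : W' ≤ W)) hzW']
  exact (congrArg (M.presheaf.germ (σ ⁻¹ᵁ W') z hzW') h0).trans (map_zero _)

end Groth.L13.PairBlow
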