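import Groth.Agent.L13.PairBlow.LocFree
import Groth.Agent.L02.Quot.PullStk

/-!
# The counit of a blow-up is injective on modules with locally free direct image
-/

set_option autoImplicit false
set_option linter.style.haveILetI false
set_option backward.isDefEq.respectTransparency false

universe u

open CategoryTheory CategoryTheory.Limits AlgebraicGeometry TopologicalSpace Opposite
open Groth.L18.Frame (rs rs_rs rs_self pull)
open Groth.L18.Ample (hom_app_rs)
open Groth.L11.BlowSmooth (sI)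
open Groth.L13.PointBlow (pre preι opensRange_preι)
open Groth.L20.ModStalk (germ_rs)

noncomputable section

namespace Groth.L13.PairBlow

variable {X Y : Scheme.{u}} {σ : Y ⟶ X} {I : X.IdealSheafData}

theorem counit_pull (M : Y.Modules) (W : X.Opens) (n : Γ((Scheme.Modules.pushforward σ).obj M, W)) :
    ((Scheme.Modules.pullbackPushforwardAdjunction σ).counit.app M).app (σ ⁻¹ᵁ W)
      (pull σ ((Scheme.Modules.pushforward σ).obj M) W n) = (show Γ(M, σ ⁻¹ᵁ W) from n) :=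
  congr(($((Scheme.Modules.pullbackPushforwardAdjunction σ).right_triangle_components M)).app W n)

/-- Off the centre the counit is injective on germs. -/
theorem germ_eq_zero_of_counit (hb : BlowUp.IsBlowUp σ I) (M : Y.Modules) {V : Y.Opens}
    (s : Γ((Scheme.Modules.pullback σ).obj ((Scheme.Modules.pushforward σ).obj M), V))
    (hs : ((Scheme.Modules.pullbackPushforwardAdjunction σ).counit.app M).app V s = 0)
    (z : Y) (hzV : z ∈ V) (hz : σ z ∉ I.support) :
    ((Scheme.Modules.pullback σ).obj ((Scheme.Modules.pushforward σ).obj M)).presheaf.germ V z hzV s = 0 := by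
  let ε : (Scheme.Modules.pullback σ).obj ((Scheme.Modules.pushforward σ).obj M) ⟶ M :=
    (Scheme.Modules.pullbackPushforwardAdjunction σ).counit.app M
  let F := (Scheme.Modules.pushforward σ).obj M
  let P := (Scheme.Modules.pullback σ).obj F
  haveI := Groth.L22.Ideals.isIso_stalkMap hb z hz
  obtain ⟨q, hq⟩ := Groth.L02.Quot.τ_surjective σ F z
    (ConcreteCategory.bijective_of_isIso (σ.stalkMap z)).2 (P.presheaf.germ V z hzV s)
  obtain ⟨W, hzW, n, rfl⟩ := TopCat.Presheaf.exists_germ_eq F.presheaf q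
  rw [Groth.L02.Quot.τ_germ σ F z hzW n] at hq
  obtain ⟨N, hzN, i₁, i₂, h2⟩ := TopCat.Presheaf.germ_eq P.presheaf z hzW hzV _ _ hq
  have h3 : rs M i₁.le (show Γ(M, σ ⁻¹ᵁ W) from n) = 0 := by
    have h4 : rs P i₁.le (pull σ F W n) = rs P i₂.le s := h2
    have h5 := congrArg (ε.app N) h4
    rw [hom_app_rs, hom_app_rs] at h5
    rw [show ε.app V s = 0 from hs, show rs M i₂.le (0 : Γ(M, V)) = 0 from map_zero _] at h5
    exact (congrArg (rs M i₁.le) (counit_pull M W n)).symm.trans h5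
  let C : X.Opens := I.support.compl
  haveI : IsIso (σ ∣_ C) := Groth.L22.Ideals.isIso_restrict_compl hb
  let W' : X.Opens := W ⊓ C.ι ''ᵁ ((σ ∣_ C) ''ᵁ ((σ ⁻¹ᵁ C).ι ⁻¹ᵁ N))
  have hcomm : ∀ a, C.ι ((σ ∣_ C) a) = σ ((σ ⁻¹ᵁ C).ι a) := fun a =>
    congr($(morphismRestrict_ι σ C) a)
  have hzW' : σ z ∈ W' := ⟨hzW, ⟨_, ⟨⟨z, hz⟩, hzN, rfl⟩, hcomm ⟨z, hz⟩⟩⟩
  have hle : σ ⁻¹ᵁ W' ≤ N := by
    rintro y ⟨-, w, ⟨a, ha, rfl⟩, hw⟩
    have hyC : y ∈ σ ⁻¹ᵁ C := by
      show σ y ∈ C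
      rw [← hw]
      exact ((σ ∣_ C) a).2
    have h6 : C.ι ((σ ∣_ C) ⟨y, hyC⟩) = C.ι ((σ ∣_ C) a) := (hcomm ⟨y, hyC⟩).trans hw.symm
    have h7 : (⟨y, hyC⟩ : (σ ⁻¹ᵁ C).toScheme) = a :=
      (σ ∣_ C).isOpenEmbedding.injective (C.ι.isOpenEmbedding.injective h6)
    have h8 : (σ ⁻¹ᵁ C).ι ⟨y, hyC⟩ ∈ N := h7 ▸ ha
    exact h8
  have h9 : rs F (inf_le_left : W' ≤ W) n = 0 := by
    show rs M (σ.preimage_mono inf_le_left) (show Γ(M, σ ⁻¹ᵁ W) from n) = 0
    rw [← rs_rs M i₁.le hle, h3]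
    exact map_zero _
  rw [← hq, ← Groth.L02.Quot.τ_germ σ F z hzW n, ← germ_rs F (inf_le_left : W' ≤ W) hzW' n, h9,
    map_zero, map_zero]

/-- A section of a locally free module vanishing off the exceptional divisor is zero. -/
theorem eq_zero_of_germs [IsLocallyNoetherian X] (hb : BlowUp.IsBlowUp σ I) (hp : LocallyPair I)
    {N : Y.Modules} (hN : FlatMod.IsFinLocFree N) {V : Y.Opens} (s : Γ(N, V))
    (h : ∀ z (hz : z ∈ V), σ z ∉ I.support → N.presheaf.germ V z hz s = 0) : s = 0 := by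
  refine TopCat.Presheaf.section_ext ((Groth.L21.Mod.toAbSh Y).obj N) V _ _ fun z hz => ?_
  show N.presheaf.germ V z hz s = N.presheaf.germ V z hz 0
  rw [map_zero]
  by_cases hzI : σ z ∈ I.support
  swap
  · exact h z hz hzI
  obtain ⟨U, f, hzU, hI⟩ := hp _ hzI
  let j := preι σ U
  let e := (Scheme.Modules.restrictFunctorIsoPullback j).app N
  let s' : Γ(N.restrict j, j ⁻¹ᵁ V) := rs N (j.image_preimage_le V) s
  have h0 : e.hom.app _ s' = 0 := by
    refine eq_zero_of_rs_off (isBlowUp_pre hb U f hI) (Groth.L20.DescLocus.isFinLocFree_pullback j hN) _ ?_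
    rw [← hom_app_rs e.hom]
    rw [show rs (N.restrict j) inf_le_left s' = 0 from ?_]
    · exact map_zero _
    refine TopCat.Presheaf.section_ext ((Groth.L21.Mod.toAbSh (pre σ U)).obj (N.restrict j)) _ _ _ fun w hw => ?_
    have hwV : j w ∈ V := hw.1
    have hwI : σ (j w) ∉ I.support := by
      intro hI'
      obtain ⟨i, hi⟩ : ∃ i : Fin 2, w ∈ (pre σ U).basicOpen (ProjUP.toGlobal (pullback.fst U.2.fromSpec σ) (f i)) := by
        rcases hw.2 with hw' | hw'
        exacts [⟨0, hw'⟩, ⟨1, hw'⟩]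
      rw [← preι_preimage_basicOpen U (f i)] at hi
      have hm : σ (j w) ∈ X.basicOpen (f i) := hi
      have h1 : σ (j w) ∈ (I.support : Set X) ∩ U.1 := ⟨hI', X.basicOpen_le _ hm⟩
      rw [Scheme.IdealSheafData.coe_support_inter] at h1
      exact (X.mem_zeroLocus_iff _ _).1 h1.1 _ (hI ▸ Ideal.subset_span ⟨i, rfl⟩) hm
    obtain ⟨O, hwO, hO⟩ : ∃ O : Y.Opens, j w ∈ O ∧ ∃ hOV : O ≤ V, rs N hOV s = 0 := by
      have hg := (h (j w) hwV hwI).trans (map_zero (N.presheaf.germ V (j w) hwV).hom).symm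
      obtain ⟨O, hwO, i₁, i₂, h2⟩ := TopCat.Presheaf.germ_eq N.presheaf _ hwV hwV s 0 hg
      exact ⟨O, hwO, i₁.le, h2.trans (map_zero _)⟩
    obtain ⟨hOV, hO⟩ := hO
    refine (Groth.L20.ModStalk.germ_rs (N.restrict j) (inf_le_right : (j ⁻¹ᵁ O) ⊓ _ ≤ _) ⟨hwO, hw⟩ _).symm.trans
      ((congrArg _ ?_).trans (Groth.L20.ModStalk.germ_rs (N.restrict j) inf_le_right ⟨hwO, hw⟩ 0))
    rw [rs_rs]
    refine Eq.trans ?_ (map_zero _).symm
    show rs N _ (rs N (j.image_preimage_le V) s) = 0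
    rw [rs_rs, ← rs_rs N hOV ((j.image_mono inf_le_left).trans (j.image_preimage_le O)), hO]
    exact map_zero _
  have h1 : rs N (j.image_preimage_le V) s = 0 :=
    (ConcreteCategory.bijective_of_isIso (e.hom.app (j ⁻¹ᵁ V))).1 (h0.trans (map_zero _).symm)
  obtain ⟨w, hw⟩ := (opensRange_preι σ U).ge (show z ∈ σ ⁻¹ᵁ U.1 from hzU)
  rw [← germ_rs N (j.image_preimage_le V) (show z ∈ j ''ᵁ (j ⁻¹ᵁ V) from ⟨w, show j w ∈ V by rw [hw]; exact hz, hw⟩) s,
    h1, map_zero]

/-- The counit is a monomorphism. -/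
theorem mono_counit [IsLocallyNoetherian X] (hb : BlowUp.IsBlowUp σ I) (hc : GoodCentre I) {M : Y.Modules}
    (hM : FlatMod.IsFinLocFree M) (hneg : Neg σ I M) :
    Mono ((Scheme.Modules.pullbackPushforwardAdjunction σ).counit.app M) := by
  have hP := Groth.L20.DescLocus.isFinLocFree_pullback σ (isFinLocFree_push hb hc hM hneg)
  refine Preadditive.mono_of_cancel_zero _ fun {G : Y.Modules} g hg => ?_
  refine Scheme.Modules.hom_ext _ _ fun V => ConcreteCategory.hom_ext _ _ fun t => ?_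
  exact eq_zero_of_germs hb hc.locallyPair hP (g.app V t)
    fun z hz hzI => germ_eq_zero_of_counit hb M _ (congr(($hg).app V t)) z hz hzI

end Groth.L13.PairBlow
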