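import Groth.Agent.L13.PairBlow.Points
import Groth.Agent.L13.PairBlow.CounitMono
import Groth.Agent.L13.BlowP1.Exceptional
import Groth.Agent.L16.ProjSpace.CohTwist
import Groth.Agent.L16.ProjSpace.TwistMul
import Groth.Agent.L16.HomSh.FullyFaithful
import Groth.Agent.L07.QuasiRegular
import Groth.Agent.L01.Regular
import Groth.Agent.L21.Extend.Gen
import Groth.Agent.L13.PointBlow.Twist
import Groth.Agent.L03.ShStab.QuadricCoh

/-!
# Modules trivial on the exceptional divisor
-/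

set_option autoImplicit false
set_option linter.style.haveILetI false
set_option backward.isDefEq.respectTransparency false

universe u

open CategoryTheory CategoryTheory.Limits AlgebraicGeometry TopologicalSpace Opposite
open Groth.L18.Frame (rs rs_rs rs_self)
open Groth.L11.BlowSmooth (sI)
open Groth.L03.BlowPt (ptI)
open Groth.L13.BU (idealOf)
open Groth.L13.BlowP1 (exIdeal)
open Groth.L13.PointBlow (pre preι opensRange_preι)
open Groth.L00.Tensor (tensorIso tensorComm tensorUnitLeft tensorRightF)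

noncomputable section

namespace Groth.L13.PairBlow

/-- Two parameters cutting out a regular point of dimension two are quasi-regular. -/
theorem isQuasiRegular_of_maximal {A S : Type u} [CommRing A] [CommRing S] [Algebra A S]
    [IsRegularLocalRing S] {f : Fin 2 → A} [(sI f).IsMaximal] [IsLocalization.AtPrime S (sI f)]
    (hd : ringKrullDim S = (2 : ℕ)) : CAlgX.IsQuasiRegular f := by
  let φ := algebraMap A S
  have hm : Ideal.span (Set.range (φ ∘ f)) = IsLocalRing.maximalIdeal S := by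
    rw [← IsLocalization.AtPrime.map_eq_maximalIdeal (sI f) S, sI, Ideal.map_span, ← Set.range_comp]
  have hq : CAlgX.IsQuasiRegular (φ ∘ f) :=
    Groth.L07.QReg.isQuasiRegular_of_isWeaklyRegular
      (Groth.L01.isRegular_of_ofList_eq_maximalIdeal _ (by rw [Groth.L07.QReg.ofList_ofFn, hm])
        (by rw [List.length_ofFn, hd])).toIsWeaklyRegular
  intro n P hP he d
  have h1 := hq n (MvPolynomial.map φ P) (hP.map φ) (by
    rw [MvPolynomial.eval_map, ← MvPolynomial.eval₂_comp, Set.range_comp, ← Ideal.map_span, ← Ideal.map_pow]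
    exact Ideal.mem_map_of_mem φ he) d
  rw [hm, MvPolynomial.coeff_map] at h1
  exact (IsLocalization.AtPrime.to_map_mem_maximal_iff S (sI f) _).1 h1

theorem subsingleton_sections_of_iso {Z Z' : Scheme.{u}} (j : Z' ⟶ Z) [IsOpenImmersion j] {G : Z.Modules}
    {G' : Z'.Modules} (e : (Scheme.Modules.pullback j).obj G ≅ G') [Subsingleton Γ(G', ⊤)] :
    Subsingleton Γ(G, j.opensRange) := by
  rw [← Scheme.Hom.image_top_eq_opensRange]
  exact Function.Injective.subsingleton
    (f := ((Scheme.Modules.restrictFunctorIsoPullback j).app G ≪≫ e).hom.app ⊤)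
    (Groth.L17.CxTools.injective_app _ ⊤)

/-- `O(-1)` on the exceptional divisor of a quasi-regular pair has no sections. -/
theorem subsingleton_inverse_exc {A : Type u} [CommRing A] {f : Fin 2 → A} {Y : Scheme.{u}}
    {σ : Y ⟶ Spec (CommRingCat.of A)} (hb : BlowUp.IsBlowUp σ (idealOf (sI f)))
    (hq : CAlgX.IsQuasiRegular f) {L : Y.Modules} (hL : ClSub.IsInverseOf L (ClSub.idealMod (exIdeal f σ))) :
    Subsingleton Γ((Scheme.Modules.pullback (exIdeal f σ).subschemeι).obj L, ⊤) := by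
  obtain ⟨e, ⟨i⟩⟩ := Groth.L13.BlowP1.exists_exceptional f σ hb hq
  have hcov : ∀ z : Proj (CohB1.polyGrading 1 (A ⧸ sI f)), ∃ g : CohB1.polyGrading 1 (A ⧸ sI f) 1,
      z ∈ Proj.basicOpen (CohB1.polyGrading 1 (A ⧸ sI f)) g.1 := fun z => by
    obtain ⟨j, hj⟩ := Groth.L16.ProjSpace.exists_mem_basicOpen_X 1 (A ⧸ sI f) z
    exact ⟨⟨_, Groth.L18.PS.X_mem 1 j⟩, hj⟩
  let q := e.hom ≫ (exIdeal f σ).subschemeι
  obtain ⟨t⟩ := Groth.L16.ProjTwist.nonempty_tensor_twist_iso_one (CohB1.polyGrading 1 (A ⧸ sI f)) hcov (-1) 1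
  obtain ⟨t0⟩ := Groth.L16.ProjTwist.nonempty_twist_zero_iso (CohB1.polyGrading 1 (A ⧸ sI f))
  obtain ⟨u⟩ := Groth.L13.PointBlow.inverse_unique (A := (Scheme.Modules.pullback q).obj L)
    (B := Groth.L18.PUP.O1 1 (A ⧸ sI f))
    (C := Twist.twist (CohB1.polyGrading 1 (A ⧸ sI f)) (-1))
    (tensorIso (Iso.refl _) i.symm ≪≫ Groth.L29.DC.PullTensor.pullTensor q _ _ ≪≫
      (Scheme.Modules.pullback q).mapIso hL.some ≪≫ Groth.L29.LocFree.pullbackUnitIso q)
    (t ≪≫ eqToIso (by norm_num) ≪≫ t0)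
  haveI : Subsingleton Γ(Twist.twist (CohB1.polyGrading 1 (A ⧸ sI f)) (-1), ⊤) :=
    @Equiv.subsingleton _ _ (Groth.L16.HomSh.h0Equiv (X := CohB1.ProjSpace 1 (A ⧸ sI f))
      (Twist.twistProjSpace 1 (A ⧸ sI f) (-1))).symm.toEquiv
      (Groth.L16.ProjSpace.subsingleton_HH_twist 1 (A ⧸ sI f) (-1) 0 (by omega) (by omega))
  have h := subsingleton_sections_of_iso e.hom
    (G := (Scheme.Modules.pullback (exIdeal f σ).subschemeι).obj L)
    ((Scheme.Modules.pullbackComp e.hom (exIdeal f σ).subschemeι).app L ≪≫ u)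
  rwa [Scheme.Hom.opensRange_of_isIso] at h

variable {X Y : Scheme.{u}} {σ : Y ⟶ X} {I : X.IdealSheafData}

/-- `O_E(-1)` has no sections. -/
theorem subsingleton_exc_inverse (hb : BlowUp.IsBlowUp σ I)
    (hq : ∀ x ∈ I.support, ∃ (U : X.affineOpens) (f : Fin 2 → Γ(X, U.1)),
      x ∈ U.1 ∧ I.ideal U = sI f ∧ CAlgX.IsQuasiRegular f)
    {L : Y.Modules} (hL : ClSub.IsInverseOf L (ClSub.idealMod (BlowUp.exceptional σ I))) :
    Subsingleton Γ((Scheme.Modules.pullback (BlowUp.exceptional σ I).subschemeι).obj L, ⊤) := by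
  set E := BlowUp.exceptional σ I with hE
  refine subsingleton_of_forall_eq 0 fun s => Groth.L21.Extend.eq_of_locally _ _ _ fun z _ => ?_
  have h2 : E.subschemeι z ∈ (E.support : Set Y) := by
    rw [← Scheme.IdealSheafData.range_subschemeι]; exact ⟨z, rfl⟩
  obtain ⟨U, f, hxU, hI, hqf⟩ := hq _ ((Scheme.IdealSheafData.support_comap I σ).le h2)
  let j := (E.comapIso (preι σ U)).hom ≫ pullback.snd _ _
  have hj : j ≫ E.subschemeι = (E.comap (preι σ U)).subschemeι ≫ preι σ U := by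
    simp only [j, Category.assoc, ← pullback.condition, Scheme.IdealSheafData.comapIso_hom_fst_assoc]
  have hrange : j.opensRange = E.subschemeι ⁻¹ᵁ (σ ⁻¹ᵁ U.1) := by
    rw [Scheme.Hom.opensRange_comp_of_isIso, Scheme.Hom.opensRange_pullbackSnd, opensRange_preι]
  obtain ⟨eI⟩ := nonempty_restrict_idealMod (preι σ U) E
  let R := Scheme.Modules.pullback (preι σ U)
  have hL' : ClSub.IsInverseOf (R.obj L) (ClSub.idealMod (E.comap (preι σ U))) :=
    ⟨tensorIso (Iso.refl _) (eI.symm ≪≫ (Scheme.Modules.restrictFunctorIsoPullback _).app _) ≪≫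
      Groth.L29.DC.PullTensor.pullTensor (preι σ U) L _ ≪≫ R.mapIso hL.some ≪≫ Groth.L29.LocFree.pullbackUnitIso _⟩
  haveI : Subsingleton Γ((Scheme.Modules.pullback (E.comap (preι σ U)).subschemeι).obj (R.obj L), ⊤) := by
    rw [hE, ← exIdeal_pre U f hI] at hL' ⊢
    exact subsingleton_inverse_exc (isBlowUp_pre hb U f hI) hqf hL'
  haveI := subsingleton_sections_of_iso j (G' := (Scheme.Modules.pullback (E.comap (preι σ U)).subschemeι).obj (R.obj L)) (G := (Scheme.Modules.pullback E.subschemeι).obj L)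
    ((Scheme.Modules.pullbackComp j E.subschemeι).app L ≪≫ (Scheme.Modules.pullbackCongr hj).app L ≪≫
      ((Scheme.Modules.pullbackComp _ (preι σ U)).app L).symm)
  exact ⟨j.opensRange, le_top, hrange.ge hxU, Subsingleton.elim _ _⟩

/-- Charts of a finite set of regular points of dimension two, in quasi-regular pairs. -/
theorem exists_pt_chart [IsLocallyNoetherian X] {Z : Set X} (hZ : IsClosed Z) (hfin : Z.Finite)
    (hpt : ∀ x ∈ Z, IsClosed ({x} : Set X))
    (hreg : ∀ x ∈ Z, IsRegularLocalRing (X.presheaf.stalk x))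
    (hdim : ∀ x ∈ Z, ringKrullDim (X.presheaf.stalk x) = (2 : ℕ)) {x : X} (hx : x ∈ Z) :
    ∃ (U : X.affineOpens) (f : Fin 2 → Γ(X, U.1)), x ∈ U.1 ∧
      (Scheme.IdealSheafData.vanishingIdeal ⟨Z, hZ⟩).ideal U = sI f ∧ CAlgX.IsQuasiRegular f ∧
      (ptI (hpt x hx)).ideal U = sI f := by
  let hx1 := hpt x hx
  haveI := hreg x hx
  obtain ⟨U, f, hxU, -, hI⟩ := Groth.L03.BlowPt.exists_pair hx1 (hreg x hx) (hdim x hx)
  have hcl : IsClosed (Z \ {x}) := by
    rw [← Set.biUnion_of_singleton (Z \ {x})]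
    exact (hfin.subset Set.sdiff_subset).isClosed_biUnion fun y hy => hpt y hy.1
  let R : X.Opens := ⟨(Z \ {x})ᶜ, hcl.isOpen_compl⟩
  obtain ⟨g, hgle, hxg⟩ := U.2.exists_basicOpen_le (V := R) ⟨x, fun h => h.2 rfl⟩ hxU
  let W : X.affineOpens := X.affineBasicOpen g
  have hWU : W.1 ≤ U.1 := X.basicOpen_le g
  let f' : Fin 2 → Γ(X, W.1) := fun i => X.presheaf.map (homOfLE hWU).op (f i)
  have h1 : (ptI hx1).ideal W = sI f' := by
    rw [show (ptI hx1).ideal W = _ from ((ptI hx1).map_ideal_basicOpen U g).symm, hI, sI, Ideal.map_span,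
      ← Set.range_comp]
    rfl
  refine ⟨W, f', hxg, ?_, ?_, h1⟩
  · rw [← h1]
    show PrimeSpectrum.vanishingIdeal (W.2.fromSpec ⁻¹' Z) = PrimeSpectrum.vanishingIdeal (W.2.fromSpec ⁻¹' {x})
    congr 1
    ext p
    simp only [Set.mem_preimage, Set.mem_singleton_iff]
    refine ⟨fun h => by_contra fun hne => ?_, fun h => h ▸ hx⟩
    exact (hgle (W.2.opensRange_fromSpec.le ⟨p, rfl⟩) : W.2.fromSpec p ∈ (Z \ {x})ᶜ) ⟨h, hne⟩
  · haveI : (sI f').IsMaximal := h1 ▸ Groth.L03.BlowPt.isMaximal_ptI hx1 W hxg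
    letI : Algebra Γ(X, W.1) (X.presheaf.stalk x) := X.presheaf.algebra_section_stalk ⟨x, hxg⟩
    have h2 := W.2.isLocalization_stalk ⟨x, hxg⟩
    have h3 : (W.2.primeIdealOf ⟨x, hxg⟩).asIdeal = sI f' :=
      (Groth.L03.BlowPt.ideal_ptI hx1 W hxg).symm.trans h1
    haveI : IsLocalization.AtPrime (X.presheaf.stalk x) (sI f') := by
      simp only [← h3]; exact h2
    exact isQuasiRegular_of_maximal (S := X.presheaf.stalk x) (hdim x hx)

theorem exists_qr_chart [IsLocallyNoetherian X] {Z : Set X} (hZ : IsClosed Z) (hfin : Z.Finite)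
    (hpt : ∀ x ∈ Z, IsClosed ({x} : Set X))
    (hreg : ∀ x ∈ Z, IsRegularLocalRing (X.presheaf.stalk x))
    (hdim : ∀ x ∈ Z, ringKrullDim (X.presheaf.stalk x) = (2 : ℕ)) :
    ∀ x ∈ (Scheme.IdealSheafData.vanishingIdeal ⟨Z, hZ⟩).support, ∃ (U : X.affineOpens) (f : Fin 2 → Γ(X, U.1)),
      x ∈ U.1 ∧ (Scheme.IdealSheafData.vanishingIdeal ⟨Z, hZ⟩).ideal U = sI f ∧ CAlgX.IsQuasiRegular f := fun x hx => by
  obtain ⟨U, f, h1, h2, h3, -⟩ := exists_pt_chart hZ hfin hpt hreg hdim
    (show x ∈ Z by simpa [← SetLike.mem_coe] using hx)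
  exact ⟨U, f, h1, h2, h3⟩

/-- A module trivial on the exceptional divisor is negative. -/
theorem neg_of_free (hb : BlowUp.IsBlowUp σ I)
    (hq : ∀ x ∈ I.support, ∃ (U : X.affineOpens) (f : Fin 2 → Γ(X, U.1)),
      x ∈ U.1 ∧ I.ideal U = sI f ∧ CAlgX.IsQuasiRegular f)
    {M : Y.Modules} {r : ℕ}
    (hM : Nonempty ((Scheme.Modules.pullback (BlowUp.exceptional σ I).subschemeι).obj M ≅
      FlatMod.freeMod (BlowUp.exceptional σ I).subscheme r)) : Neg σ I M := by
  intro L hL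
  haveI := subsingleton_exc_inverse hb hq hL
  let G := (Scheme.Modules.pullback (BlowUp.exceptional σ I).subschemeι).obj L
  have hG : Subsingleton (Coh.HH _ (CohB1.tensorMod (Coh.structureModule _) G) 0) :=
    Groth.L14.LocHilbLift.subsingleton_HH_of_iso (tensorUnitLeft G).symm 0
      (Groth.L16.HomSh.h0Equiv G).toEquiv.subsingleton
  have hF : Subsingleton (Coh.HH _ (CohB1.tensorMod (FlatMod.freeMod _ r) G) 0) :=
    Groth.L03.ShStab.QuadricCoh.subsingleton_sigma_tensor (fun _ : Fin r => Coh.structureModule _) G 0 fun _ => hG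
  exact Groth.L14.LocHilbLift.subsingleton_HH_of_iso ((tensorIso hM.some (Iso.refl G)).symm ≪≫
    Groth.L29.DC.PullTensor.pullTensor _ M L) 0 hF

/-- Free modules are globally generated. -/
theorem gg_of_iso_free {E : Scheme.{u}} {M : E.Modules} {r : ℕ} (h : Nonempty (M ≅ FlatMod.freeMod E r)) :
    Curv2.IsGloballyGenerated M := by
  let p : (SheafOfModules.free (ULift.{u} (Fin r)) : E.Modules) ⟶ FlatMod.freeMod E r :=
    Sigma.desc fun i => Sigma.ι (fun _ : Fin r => Coh.structureModule E) i.down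
  haveI : Epi p := ⟨fun {G} a b hab => Sigma.hom_ext _ _ fun i => by
    have h1 := (Sigma.ι (fun _ : ULift.{u} (Fin r) => Coh.structureModule E) ⟨i⟩) ≫= hab
    simpa only [p, Sigma.ι_desc_assoc] using h1⟩
  exact Groth.L18.Ample.isGloballyGenerated_of_iso h.some.symm ⟨_, p, inferInstance⟩

/-- The counit is an isomorphism on modules trivial on the exceptional divisor of finitely many regular points. -/
theorem isIso_counit_of_free [IsLocallyNoetherian X] {Z : Set X} (hZ : IsClosed Z) (hfin : Z.Finite)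
    (hpt : ∀ x ∈ Z, IsClosed ({x} : Set X))
    (hreg : ∀ x ∈ Z, IsRegularLocalRing (X.presheaf.stalk x))
    (hdim : ∀ x ∈ Z, ringKrullDim (X.presheaf.stalk x) = (2 : ℕ))
    (hb : BlowUp.IsBlowUp σ (Scheme.IdealSheafData.vanishingIdeal ⟨Z, hZ⟩))
    {M : Y.Modules} (hM : FlatMod.IsFinLocFree M) {r : ℕ}
    (hE : Nonempty ((Scheme.Modules.pullback
      (BlowUp.exceptional σ (Scheme.IdealSheafData.vanishingIdeal ⟨Z, hZ⟩)).subschemeι).obj M ≅
      FlatMod.freeMod (BlowUp.exceptional σ (Scheme.IdealSheafData.vanishingIdeal ⟨Z, hZ⟩)).subscheme r)) :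
    FlatMod.IsFinLocFree ((Scheme.Modules.pushforward σ).obj M) ∧
      IsIso ((Scheme.Modules.pullbackPushforwardAdjunction σ).counit.app M) := by
  have hc := goodCentre_vanishingIdeal hZ hfin hpt hreg hdim
  have hn := neg_of_free hb (exists_qr_chart hZ hfin hpt hreg hdim) hE
  haveI := epi_counit hb hc.locallyPair hM (gg_of_iso_free hE)
  haveI := mono_counit hb hc hM hn
  exact ⟨isFinLocFree_push hb hc hM hn, isIso_of_mono_of_epi _⟩

end Groth.L13.PairBlow
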