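import Groth.Agent.L13.PairBlow.Cohom
import Groth.Agent.L13.PairBlow.FreeExc
import Groth.Agent.L20.DescLocus.UnitLocFree
import Groth.Agent.L20.DescLocus.IsoLocus
import Groth.Agent.L16.HomSh.FreeFrames
import Groth.Agent.L13.PointBlow.Base
import Groth.Agent.L17.ChangeRings
import Groth.Agent.L16.HomSh.QAffineCompletion

/-!
# Endomorphism sheaves and pullbacks along blow-ups of points
-/

set_option autoImplicit false
set_option linter.style.haveILetI false
set_option backward.isDefEq.respectTransparency false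
set_option backward.isDefEq.respectTransparency.types false

universe u

open CategoryTheory CategoryTheory.Limits AlgebraicGeometry TopologicalSpace Opposite
open Groth.L00.Tensor (tensorRightF tensorLeftF tensorIso tensorMap tensorFlipIso)
open Groth.L16.HomSh (homMod homModF tensorHomAdj pullHomMap isIso_pullHomMap isFinLocFree_homMod)

noncomputable section

namespace Groth.L13.PairBlow

/-- Tensoring with isomorphic modules. -/
def tensorLeftMapIso {Z : Scheme.{u}} {M M' : Z.Modules} (e : M ≅ M') : tensorLeftF M ≅ tensorLeftF M' :=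
  NatIso.ofComponents (fun N => tensorIso e (Iso.refl N)) fun {N N'} g => by
    show tensorMap (𝟙 M) g ≫ tensorMap e.hom (𝟙 N') = tensorMap e.hom (𝟙 N) ≫ tensorMap (𝟙 M') g
    rw [← Groth.L00.Tensor.tensorMap_comp, ← Groth.L00.Tensor.tensorMap_comp]
    simp

/-- The sheaf of endomorphisms as the sheaf of homomorphisms. -/
def endIso {Z : Scheme.{u}} (F : Z.Modules) [ModSite.HasSheafHom (O := Z.sheaf) F] :
    (ModSite.sheafHom (O := Z.sheaf) F).obj F ≅ homMod F F :=
  (((ModSite.sheafHomAdj (O := Z.sheaf) F).ofNatIsoLeft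
    ((Groth.L17.ChangeRings.tensorRightBiIso F).symm ≪≫ tensorFlipIso F)).rightAdjointUniq (tensorHomAdj F)).app F

/-- Endomorphisms of isomorphic modules. -/
def homModIso {Z : Scheme.{u}} {M M' : Z.Modules} (e : M ≅ M') : homMod M M ≅ homMod M' M' :=
  (((tensorHomAdj M).ofNatIsoLeft (tensorLeftMapIso e)).rightAdjointUniq (tensorHomAdj M')).app M ≪≫
    (homModF M').mapIso e

theorem hom_free_one (Z : Scheme.{u}) : Nonempty (Coh.structureModule Z ≅ FlatMod.freeMod Z 1) :=
  ⟨(coproductUniqueIso (fun _ : Fin 1 => Coh.structureModule Z)).symm⟩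

variable {X Y : Scheme.{u}} [IsLocallyNoetherian X] {σ : Y ⟶ X}

/-- The direct image of the structure sheaf of the blow-up of finitely many regular points. -/
theorem isIso_app_blowUp [IrreducibleSpace X] {Z : Set X} (hZ : IsClosed Z) (hfin : Z.Finite)
    (hpt : ∀ x ∈ Z, IsClosed ({x} : Set X))
    (hreg : ∀ x ∈ Z, IsRegularLocalRing (X.presheaf.stalk x))
    (hdim : ∀ x ∈ Z, ringKrullDim (X.presheaf.stalk x) = (2 : ℕ))
    (hne : ∃ x : X, x ∉ Z)
    (hb : BlowUp.IsBlowUp σ (Scheme.IdealSheafData.vanishingIdeal ⟨Z, hZ⟩)) :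
    ∀ U : X.Opens, IsIso (σ.app U) := by
  let I := Scheme.IdealSheafData.vanishingIdeal (⟨Z, hZ⟩ : Closeds X)
  obtain ⟨eE⟩ := hom_free_one (BlowUp.exceptional σ I).subscheme
  obtain ⟨hP, hiso⟩ := isIso_counit_of_free hZ hfin hpt hreg hdim hb
    (Groth.L16.HomSh.isFinLocFree_unit Y) (r := 1) ⟨Groth.L29.LocFree.pullbackUnitIso _ ≪≫ eE⟩
  have hc := goodCentre_vanishingIdeal hZ hfin hpt hreg hdim
  haveI := isProper_of_locallyPair hb
  let adj := Scheme.Modules.pullbackPushforwardAdjunction σ
  let η := adj.unit.app (Coh.structureModule X)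
  haveI : IsIso ((Scheme.Modules.pullback σ).map η) := by
    haveI : IsIso (adj.counit.app ((Scheme.Modules.pullback σ).obj (Coh.structureModule X))) := by
      have h := adj.counit.naturality (Groth.L29.LocFree.pullbackUnitIso σ).hom
      simp only [Functor.id_map] at h
      haveI := hiso
      exact IsIso.of_isIso_fac_right h.symm
    exact IsIso.of_isIso_fac_right (adj.left_triangle_components (Coh.structureModule X))
  have hP' : FlatMod.IsFinLocFree ((Scheme.Modules.pushforward σ).obj ((Scheme.Modules.pullback σ).obj (Coh.structureModule X))) :=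
    Groth.L29.LocFree.of_iso ((Scheme.Modules.pushforward σ).mapIso (Groth.L29.LocFree.pullbackUnitIso σ)).symm hP
  have hsurj : ∀ x : X, ∃ y, σ y = x := by
    intro x
    haveI := Groth.L22.Ideals.isIso_restrict_compl hb
    let C : X.Opens := I.support.compl
    have hsub : (C : Set X) ⊆ Set.range σ := fun c hc' => by
      refine ⟨(σ ⁻¹ᵁ C).ι (inv (σ ∣_ C) ⟨c, hc'⟩), ?_⟩
      rw [← Scheme.Hom.comp_apply, ← morphismRestrict_ι, Scheme.Hom.comp_apply]
      exact congrArg C.ι (congr($(IsIso.inv_hom_id (σ ∣_ C)) ⟨c, hc'⟩))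
    have hCne : (C : Set X).Nonempty := by
      obtain ⟨c, hc'⟩ := hne
      exact ⟨c, fun h => hc' (by simpa [I, ← SetLike.mem_coe] using h)⟩
    have hd : Dense (C : Set X) := C.2.dense hCne
    exact (hd.mono hsub).closure_eq.ge.trans σ.isClosedMap.isClosed_range.closure_eq.le (Set.mem_univ x)
  haveI : IsIso η := by
    have h := Groth.L20.DescLocus.isIso_of_range_subset η (𝟙 X) fun x => by
      obtain ⟨y, hy⟩ := hsurj x
      show x ∈ _
      rw [← hy]
      exact Groth.L20.DescLocus.mem_isoLocus_of_pullback σ (Groth.L16.HomSh.isFinLocFree_unit X) hP' η y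
    exact (NatIso.isIso_map_iff (Scheme.Modules.pullbackId X) η).1 h
  haveI : IsIso (ClSub.unitToPush σ) := by
    rw [← Groth.L20.DescLocus.unit_structure σ]
    infer_instance
  intro U
  rw [ConcreteCategory.isIso_iff_bijective]
  exact ConcreteCategory.bijective_of_isIso ((ClSub.unitToPush σ).app U)

/-- Pullbacks of locally free modules are acyclic for the blow-up of points. -/
theorem isZero_Rpush_pullback {I' : X.IdealSheafData} (hb : BlowUp.IsBlowUp σ I') (hp : LocallyPair I') [QuasiCompact σ] [QuasiSeparated σ]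
    [HasInjectiveResolutions Y.Modules] {E : X.Modules} (hE : FlatMod.IsFinLocFree E) (i : ℕ) (hi : 0 < i) :
    IsZero ((Coh.Rpush σ i).obj ((Scheme.Modules.pullback σ).obj E)) := by
  haveI : Coh.IsQCoh E := Groth.L29.DC.PCQCoh.isQCoh_of_isFinLocFree hE
  haveI := Groth.L16.AffineBC.isQCoh_pullback σ E
  refine isZero_Rpush_of_charts hb hp _ (fun U f hI q => ?_) i hi
  haveI : Coh.IsQCoh (((Scheme.Modules.pullback σ).obj E).restrict (Groth.L13.PointBlow.preι σ U)) :=
    Scheme.Modules.isQuasicoherent_restrictFunctor _ _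
  rcases q with _ | q
  · exact subsingleton_H1_gg (isBlowUp_pre hb U f hI) _ (Groth.L13.PointBlow.gg_restrict_pullback σ U E)
  · exact subsingleton_H_ge_two (isBlowUp_pre hb U f hI) _ _ (by omega)

end Groth.L13.PairBlow
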