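import Groth.Agent.L13.PairBlow.Vanish
import Groth.Agent.L02.Quot.GG
import Groth.Agent.L15.Ref.Reflexive
import Groth.Agent.L29.DCoh.TensorPerfect
import Groth.Agent.L16.QcqsPush
import Groth.Agent.L14.LocHilb.Lift.PushHom
import Groth.Agent.L02.Quot.CoreLemmas

/-!
# Blow-ups in two generators: lifting generators from the exceptional divisor
-/

set_option autoImplicit false
set_option linter.style.haveILetI false
set_option backward.isDefEq.respectTransparency false

universe u

open CategoryTheory CategoryTheory.Limits AlgebraicGeometry TopologicalSpace Opposite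
open Groth.L18.Frame (rs ro rs_rs rs_self rs_smul)
open Groth.L11.BlowSmooth (sI)
open Groth.L13.BU (idealOf)
open Groth.L13.BlowP1 (exIdeal gl)
open Groth.L13.PointBlow (mulI)
open Groth.L02.Quot (stkₗ stkₗ_germ)

noncomputable section

namespace Groth.L13.PairBlow

theorem exists_eq_stk {Z : Scheme.{u}} {S : ShortComplex Z.Modules} (hS : S.Exact) (z : Z)
    (v : S.X₂.presheaf.stalk z) (hv : stkₗ S.g z v = 0) : ∃ a, stkₗ S.f z a = v :=
  (ShortComplex.ab_exact_iff _).1 ((Groth.L21.Mod.exact_iff_stalk S).1 hS z) v hv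

variable {Y : Scheme.{u}} {A : Type u} [CommRing A] {f : Fin 2 → A} {σ : Y ⟶ Spec (CommRingCat.of A)}

/-- Multiplication by the two generators maps onto `I ⊗ M`. -/
theorem epi_secMaps (hb : BlowUp.IsBlowUp σ (idealOf (sI f))) (M : Y.Modules) :
    Epi (biprod.desc (secMap f σ M 0) (secMap f σ M 1)) :=
  Preadditive.epi_of_cancel_zero _ fun {G} g hg => secMap_jointly_epi hb M g fun i => by
    fin_cases i
    · simpa using biprod.inl ≫= hg
    · simpa using biprod.inr ≫= hg

/-- `(I ⊗ M)|_E` is globally generated with `M|_E`. -/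
theorem gg_pullback_idealTensor {E : Scheme.{u}} (ι : E ⟶ Y) (hb : BlowUp.IsBlowUp σ (idealOf (sI f)))
    {M : Y.Modules} (hgg : Curv2.IsGloballyGenerated ((Scheme.Modules.pullback ι).obj M)) :
    Curv2.IsGloballyGenerated
      ((Scheme.Modules.pullback ι).obj (CohB1.tensorMod (ClSub.idealMod (exIdeal f σ)) M)) := by
  refine Groth.L18.Ample.isGloballyGenerated_of_kills _ fun G g hg => ?_
  let adj := Scheme.Modules.pullbackPushforwardAdjunction ι
  have h0 : ∀ i, (Scheme.Modules.pullback ι).map (secMap f σ M i) ≫ g = 0 := fun i =>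
    Groth.L18.Ample.eq_zero_of_killsGlobal hgg _ fun t => hg _
  have h1 : adj.homEquiv _ _ g = 0 := secMap_jointly_epi hb M _ fun i => by
    rw [← Adjunction.homEquiv_naturality_left, h0 i, Adjunction.homEquiv_unit, Functor.map_zero, comp_zero]
  apply (adj.homEquiv _ _).injective
  rw [h1, Adjunction.homEquiv_unit, Functor.map_zero, comp_zero]

/-- Global generation spreads from the exceptional divisor. -/
theorem isGloballyGenerated_of_exc [IsNoetherianRing A] (hb : BlowUp.IsBlowUp σ (idealOf (sI f))) {M : Y.Modules}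
    (hM : FlatMod.IsFinLocFree M)
    (hgg : Curv2.IsGloballyGenerated ((Scheme.Modules.pullback (exIdeal f σ).subschemeι).obj M)) :
    Curv2.IsGloballyGenerated M := by
  haveI : IsNoetherianRing (CommRingCat.of A) := inferInstanceAs (IsNoetherianRing A)
  haveI : IsProper σ := Groth.L13.BU.isProper_blowUp hb fun U =>
    haveI : IsNoetherianRing Γ(Spec (CommRingCat.of A), U.1) := IsLocallyNoetherian.component_noetherian U
    IsNoetherian.noetherian _
  haveI : IsLocallyNoetherian Y := LocallyOfFiniteType.isLocallyNoetherian σ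
  haveI : CompactSpace Y := QuasiCompact.compactSpace_of_compactSpace σ
  haveI : QuasiSeparatedSpace Y := quasiSeparatedSpace_of_quasiSeparated σ
  haveI : Coh.IsQCoh M := Groth.L29.DC.PCQCoh.isQCoh_of_isFinLocFree hM
  have hcoh : Coh.IsCoh M := Groth.L16.NegPow.isCoh_of_isFinLocFree hM
  have hI : PicF.IsInvertible (ClSub.idealMod (exIdeal f σ)) :=
    (Groth.Agent.L19.IdealInvertible.isEffCartier_iff _).2 hb.1
  have hIM : FlatMod.IsFinLocFree (CohB1.tensorMod (ClSub.idealMod (exIdeal f σ)) M) :=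
    Groth.L29.DC.isFinLocFree_tensor (Groth.L16.Existence.isFinLocFree_of_isInvertible hI) hM
  obtain ⟨S, hS, e₁, e₂, hf, ⟨e₃⟩⟩ := exists_seq (exIdeal f σ) hM
  have h1 : Subsingleton (Coh.HH Y S.X₁ 1) := Groth.L14.LocHilbLift.subsingleton_HH_of_iso e₁.symm 1
    (subsingleton_H1 hb hIM (gg_pullback_idealTensor _ hb hgg))
  have hsurj := Groth.L16.Exist.Adic.surjective_app_top hS h1
  have h3 : Curv2.IsGloballyGenerated S.X₃ :=
    Groth.L13.PointBlow.gg_of_epi e₃.inv (Groth.L16.Exist.Adic.isGloballyGenerated_push _ hgg)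
  have key : ∀ z : Y, Submodule.span (Y.presheaf.stalk z)
      (Set.range fun t : Γ(M, ⊤) => M.presheaf.germ ⊤ z trivial t) = ⊤ := by
    intro z
    set T := Submodule.span (Y.presheaf.stalk z)
      (Set.range fun t : Γ(M, ⊤) => M.presheaf.germ ⊤ z trivial t) with hT
    have hTg : ∀ t : Γ(M, ⊤), M.presheaf.germ ⊤ z trivial t ∈ T := fun t => Submodule.subset_span ⟨t, rfl⟩
    by_cases hz : ∃ i, z ∈ Y.basicOpen (ProjUP.toGlobal σ (f i))
    · obtain ⟨i, hi⟩ := hz
      have hW : IsAffineOpen (Y.basicOpen (ProjUP.toGlobal σ (f i))) := by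
        have := isAffineOpen_preimage_basicOpen hb i
        rwa [Scheme.preimage_basicOpen] at this
      letI := Groth.L20.ModStalk.stalkModule M hi
      haveI := Groth.L20.ModStalk.isLocalizedModule_germ M hW hi
      refine eq_top_iff.2 fun v _ => ?_
      obtain ⟨⟨m, c⟩, hmc⟩ := IsLocalizedModule.surj (hW.primeIdealOf ⟨z, hi⟩).asIdeal.primeCompl
        (Groth.L20.ModStalk.germₗ M hi) v
      letI := Y.presheaf.algebra_section_stalk ⟨z, hi⟩
      haveI := hW.isLocalization_stalk ⟨z, hi⟩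
      have hc : IsUnit (Y.presheaf.germ _ z hi (c : Γ(Y, Y.basicOpen (ProjUP.toGlobal σ (f i))))) :=
        IsLocalization.map_units (Y.presheaf.stalk z) c
      obtain ⟨n, t, ht⟩ := Groth.L16.QcqsPush.exists_pow_smul_eq_res M isCompact_univ
        ((isQuasiSeparated_univ_iff (α := Y)).2 inferInstance) (ProjUP.toGlobal σ (f i)) m
      have hu : IsUnit (Y.presheaf.germ ⊤ z trivial (ProjUP.toGlobal σ (f i) ^ n)) := by
        rw [map_pow]; exact ((Scheme.mem_basicOpen Y (ProjUP.toGlobal σ (f i)) z (show z ∈ (⊤ : Y.Opens) from trivial)).1 hi).pow n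
      have h2 := congrArg (fun w => M.presheaf.germ _ z hi w) ht
      simp only [Groth.L20.ModStalk.germ_rs, Groth.L20.ModStalk.germ_smul] at h2
      have hm : M.presheaf.germ _ z hi m ∈ T := by
        have h4 := hTg t
        rw [h2, show Y.presheaf.germ _ z hi (ro _ (ProjUP.toGlobal σ (f i) ^ n)) = _ from
          TopCat.Presheaf.germ_res_apply Y.presheaf _ _ _ _] at h4
        exact (Submodule.smul_mem_iff_of_isUnit T hu).1 h4
      have hcv : Y.presheaf.germ _ z hi (c : Γ(Y, Y.basicOpen (ProjUP.toGlobal σ (f i)))) • v ∈ T := by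
        rw [show Y.presheaf.germ _ z hi (c : Γ(Y, Y.basicOpen (ProjUP.toGlobal σ (f i)))) • v = _ from hmc]
        exact hm
      exact (Submodule.smul_mem_iff_of_isUnit T hc).1 hcv
    · push Not at hz
      haveI := Groth.L15.Ref.finite_stalk hcoh z
      refine eq_top_iff.2 (Submodule.le_of_le_smul_of_le_jacobson_bot Module.Finite.fg_top
        (IsLocalRing.maximalIdeal_le_jacobson _) fun v _ => ?_)
      have hv : stkₗ S.g z (stkₗ e₂.inv z v) ∈
          Submodule.span (Y.presheaf.stalk z) (Set.range fun t : Γ(S.X₃, ⊤) => S.X₃.presheaf.germ ⊤ z trivial t) := by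
        rw [Groth.L02.Quot.span_germ_top_of_gg h3 z]; trivial
      have hspan : Submodule.span (Y.presheaf.stalk z)
          (Set.range fun t : Γ(S.X₃, ⊤) => S.X₃.presheaf.germ ⊤ z trivial t) ≤
          T.map ((stkₗ S.g z).comp (stkₗ e₂.inv z)) := by
        refine Submodule.span_le.2 ?_
        rintro _ ⟨t, rfl⟩
        obtain ⟨t', ht'⟩ := hsurj t
        refine ⟨_, hTg (e₂.hom.app ⊤ t'), ?_⟩
        simp only [LinearMap.comp_apply, stkₗ_germ]
        rw [← ht']
        exact congrArg (fun w => S.X₃.presheaf.germ ⊤ z trivial (S.g.app ⊤ w))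
          (congr(($(e₂.hom_inv_id)).app ⊤ t'))
      obtain ⟨w, hwT, hw⟩ := hspan hv
      have hker : stkₗ S.g z (stkₗ e₂.inv z (v - w)) = 0 := by
        rw [map_sub, map_sub, sub_eq_zero]; exact hw.symm
      obtain ⟨a, ha⟩ := exists_eq_stk hS.exact z _ hker
      haveI := epi_secMaps hb M
      obtain ⟨b, hb'⟩ := Groth.L02.Quot.stkₗ_surjective (biprod.desc (secMap f σ M 0) (secMap f σ M 1)) z
        (stkₗ e₁.hom z a)
      refine Submodule.mem_sup.2 ⟨w, hwT, v - w, ?_, by abel⟩
      have h5 : v - w = stkₗ (biprod.desc (secMap f σ M 0) (secMap f σ M 1) ≫ mulI (exIdeal f σ) M) z b := by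
        rw [Groth.L02.Quot.stkₗ_comp, hb', ← Groth.L02.Quot.stkₗ_comp]
        have h6 := congrArg (stkₗ e₂.hom z) ha
        rw [← Groth.L02.Quot.stkₗ_comp, ← Groth.L02.Quot.stkₗ_comp, Iso.inv_hom_id, Groth.L02.Quot.stkₗ_id,
          hf, Category.assoc, Category.assoc, Iso.inv_hom_id, Category.comp_id] at h6
        exact h6.symm
      have hd : biprod.desc (secMap f σ M 0) (secMap f σ M 1) ≫ mulI (exIdeal f σ) M =
          biprod.fst ≫ smulF f σ M 0 + biprod.snd ≫ smulF f σ M 1 := by
        apply biprod.hom_ext' <;> simp [secMap_mulI]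
      have hmem : ∀ i (u : M.presheaf.stalk z), stkₗ (smulF f σ M i) z u ∈
          (IsLocalRing.maximalIdeal (Y.presheaf.stalk z) • ⊤ : Submodule (Y.presheaf.stalk z) (M.presheaf.stalk z)) := by
        intro i u
        obtain ⟨V, hzV, s, rfl⟩ := TopCat.Presheaf.exists_germ_eq M.presheaf u
        rw [stkₗ_germ]
        show M.presheaf.germ V z hzV ((show Γ(Y, V) from Coh.resTop Y (op V) (ProjUP.toGlobal σ (f i))) • s) ∈ _
        rw [Groth.L20.ModStalk.germ_smul]
        refine Submodule.smul_mem_smul ((IsLocalRing.mem_maximalIdeal _).2 fun hu => ?_) Submodule.mem_top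
        refine hz i ((Scheme.mem_basicOpen Y (ProjUP.toGlobal σ (f i)) z (show z ∈ (⊤ : Y.Opens) from trivial)).2 ?_)
        rwa [show Y.presheaf.germ V z hzV (Coh.resTop Y (op V) (ProjUP.toGlobal σ (f i))) = _ from
          TopCat.Presheaf.germ_res_apply Y.presheaf _ _ _ _] at hu
      rw [h5, hd]
      obtain ⟨V, hzV, s, rfl⟩ := TopCat.Presheaf.exists_germ_eq (M ⊞ M).presheaf b
      rw [stkₗ_germ, Scheme.Modules.Hom.add_app]
      have h7 := add_mem (hmem 0 (stkₗ (biprod.fst : M ⊞ M ⟶ M) z ((M ⊞ M).presheaf.germ V z hzV s)))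
        (hmem 1 (stkₗ (biprod.snd : M ⊞ M ⟶ M) z ((M ⊞ M).presheaf.germ V z hzV s)))
      rw [← Groth.L02.Quot.stkₗ_comp, ← Groth.L02.Quot.stkₗ_comp, stkₗ_germ, stkₗ_germ, ← map_add] at h7
      exact h7
  refine Groth.L18.Ample.isGloballyGenerated_of_kills _ fun G g hg => ?_
  refine Scheme.Modules.hom_ext _ _ fun U => ConcreteCategory.hom_ext _ _ fun s => ?_
  refine TopCat.Presheaf.section_ext ((Groth.L21.Mod.toAbSh Y).obj G) U _ _ fun z hz => ?_
  show G.presheaf.germ U z hz (g.app U s) = G.presheaf.germ U z hz 0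
  rw [map_zero, ← stkₗ_germ]
  have h8 : M.presheaf.germ U z hz s ∈ LinearMap.ker (stkₗ g z) := by
    have h9 : Submodule.span (Y.presheaf.stalk z)
        (Set.range fun t : Γ(M, ⊤) => M.presheaf.germ ⊤ z trivial t) ≤ LinearMap.ker (stkₗ g z) := by
      refine Submodule.span_le.2 ?_
      rintro _ ⟨t, rfl⟩
      show stkₗ g z _ = 0
      rw [stkₗ_germ, hg t, map_zero]
    exact h9 (key z ▸ Submodule.mem_top)
  exact LinearMap.mem_ker.1 h8

end Groth.L13.PairBlow
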