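import Groth.Agent.L13.PairBlow.FreeExc
import Groth.Agent.L13.Contraction.Universal
import Groth.Agent.L20.DescLocus.UnitLocFree
import Groth.Agent.L23.SchKer

/-!
# Invertible modules and contractions
-/

set_option autoImplicit false
set_option linter.style.haveILetI false
set_option backward.isDefEq.respectTransparency false

universe u

open CategoryTheory CategoryTheory.Limits AlgebraicGeometry TopologicalSpace Opposite

noncomputable section

namespace Groth.L13.PairBlow

variable {E X Z : Scheme.{u}} {ι : E ⟶ X}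

/-- The contracted curve is the exceptional divisor of a contraction. -/
theorem exceptional_eq_ker [IsNoetherian X] [IsClosedImmersion ι] (hE : Models.IsExcCurve ι) (b : X ⟶ Z)
    [IsLocallyNoetherian Z] {y : Z} (hy : IsClosed ({y} : Set Z))
    (hrange : Set.range ((ι ≫ b).base : E → Z) = {y}) (hreg : IsRegularLocalRing (Z.presheaf.stalk y))
    (hdim : ringKrullDim (Z.presheaf.stalk y) = 2)
    (hb : BlowUp.IsBlowUp b (Scheme.IdealSheafData.vanishingIdeal ⟨{y}, hy⟩)) :
    BlowUp.exceptional b (Scheme.IdealSheafData.vanishingIdeal ⟨{y}, hy⟩) = ι.ker := by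
  obtain ⟨D⟩ := Groth.L03.BlowPt.exists_echart hb hreg (by rw [hdim]; rfl)
  haveI := D.isIntegral
  let J := BlowUp.exceptional b (Scheme.IdealSheafData.vanishingIdeal ⟨{y}, hy⟩)
  haveI : IsIntegral J.subscheme := D.isIntegral
  haveI : _root_.AlgebraicGeometry.IsReduced E := by
    obtain ⟨-, k, _, e, -⟩ := hE
    haveI : IsIntegral (CohB1.ProjSpace 1 k) := Groth.L16.ProjSpace.isIntegral (n := 1) (R := k)
    exact isReduced_of_isOpenImmersion e.inv
  show J = ι.ker
  have hset : Set.range J.subschemeι = Set.range ι := by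
    rw [Scheme.IdealSheafData.range_subschemeι]
    ext a
    rw [show a ∈ (J.support : Set X) ↔ b a = y by
      show a ∈ (((Scheme.IdealSheafData.vanishingIdeal (⟨{y}, hy⟩ : Closeds Z)).comap b).support : Set X) ↔ _
      rw [Scheme.IdealSheafData.support_comap]
      show b a ∈ ((Scheme.IdealSheafData.vanishingIdeal (⟨{y}, hy⟩ : Closeds Z)).support : Set Z) ↔ _
      simp]
    refine ⟨fun ha => Groth.L13.Contraction.mem_range_of_apply hE b hy hrange hreg hdim hb a ha, ?_⟩
    rintro ⟨e', rfl⟩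
    exact (hrange ▸ Set.mem_range_self e' : (ι ≫ b) e' ∈ ({y} : Set Z))
  calc J = J.subschemeι.ker := (Scheme.IdealSheafData.ker_subschemeι J).symm
    _ = Scheme.IdealSheafData.vanishingIdeal ⟨closure (Set.range J.subschemeι), isClosed_closure⟩ :=
        Groth.L23.SchKer.ker_eq_vanishingIdeal _
    _ = Scheme.IdealSheafData.vanishingIdeal ⟨closure (Set.range ι), isClosed_closure⟩ := by
        simp only [hset]
    _ = ι.ker := (Groth.L23.SchKer.ker_eq_vanishingIdeal ι).symm

/-- A module trivial on a closed subscheme is trivial on the subscheme of its ideal. -/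
theorem nonempty_pullback_ker_iso [IsClosedImmersion ι] {J : X.IdealSheafData} (hJ : J = ι.ker) {L : X.Modules}
    (h : Nonempty ((Scheme.Modules.pullback ι).obj L ≅ Coh.structureModule E)) :
    Nonempty ((Scheme.Modules.pullback J.subschemeι).obj L ≅ FlatMod.freeMod J.subscheme 1) := by
  subst hJ
  refine ⟨?_⟩
  let a := inv ι.toImage
  have ha : a ≫ ι = ι.ker.subschemeι := by
    show inv ι.toImage ≫ ι = ι.imageι
    rw [IsIso.inv_comp_eq, Scheme.Hom.toImage_imageι]
  exact (Scheme.Modules.pullbackCongr ha.symm).app L ≪≫ ((Scheme.Modules.pullbackComp a ι).app L).symm ≪≫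
    (Scheme.Modules.pullback a).mapIso h.some ≪≫ Groth.L29.LocFree.pullbackUnitIso a ≪≫
    (coproductUniqueIso (fun _ : Fin 1 => Coh.structureModule ι.ker.subscheme)).symm

/-- Pullback along a surjection detects the rank. -/
theorem rank_one_of_pullback {b : X ⟶ Z} [Surjective b] {P : Z.Modules} (hP : FlatMod.IsFinLocFree P)
    (h : FlatMod.IsFinLocFreeOfRank 1 ((Scheme.Modules.pullback b).obj P)) : FlatMod.IsFinLocFreeOfRank 1 P := by
  intro z
  obtain ⟨W, n, hzW, ⟨i⟩⟩ := hP z
  suffices hn : n = 1 from ⟨W, hzW, ⟨hn ▸ i⟩⟩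
  obtain ⟨x, rfl⟩ := b.surjective z
  obtain ⟨i'⟩ := Groth.L29.LocFree.restrict_pullback b i
  obtain ⟨V, hxV, ⟨fV⟩⟩ := h x
  haveI : Coh.IsQCoh ((Scheme.Modules.pullback b).obj P) :=
    Groth.L29.DC.PCQCoh.isQCoh_of_isFinLocFree (Groth.L29.LocFree.pullback b hP)
  exact Groth.L20.DescLocus.rk_unique ((Scheme.Modules.pullback b).obj P) V.ι ⟨x, hxV⟩
    (((Scheme.Modules.restrictFunctorIsoPullback V.ι).app _).symm ≪≫ fV)
    (Opens.mem_sSup.2 ⟨b ⁻¹ᵁ W, ⟨((Scheme.Modules.restrictFunctorIsoPullback _).app _).symm ≪≫ i'⟩, hzW⟩)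

/-- A module pulled back from a scheme is trivial on anything mapped into a point. -/
theorem nonempty_pullback_trivial {f : E ⟶ Z} {y : Z} (hf : Set.range f ⊆ ({y} : Set Z)) {L : Z.Modules}
    (hL : FlatMod.IsFinLocFreeOfRank 1 L) : Nonempty ((Scheme.Modules.pullback f).obj L ≅ Coh.structureModule E) := by
  obtain ⟨U, hyU, ⟨e⟩⟩ := hL y
  have hU : Set.range f ⊆ Set.range U.ι := hf.trans fun z hz => ⟨⟨y, hyU⟩, (Set.mem_singleton_iff.1 hz).symm⟩
  let g := IsOpenImmersion.lift U.ι f hU
  exact ⟨(Scheme.Modules.pullbackCongr (IsOpenImmersion.lift_fac U.ι f hU).symm).app L ≪≫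
    ((Scheme.Modules.pullbackComp g U.ι).app L).symm ≪≫ (Scheme.Modules.pullback g).mapIso
      (((Scheme.Modules.restrictFunctorIsoPullback U.ι).app L).symm ≪≫ e ≪≫
        coproductUniqueIso (fun _ : Fin 1 => Coh.structureModule (↑U : Scheme.{u}))) ≪≫
    Groth.L29.LocFree.pullbackUnitIso g⟩

end Groth.L13.PairBlow
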