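import Groth.Agent.L13.PairBlow.H1Van
import Groth.Agent.L07.DiffOpSheaf
import Groth.Agent.L22.Inter.PushProper

/-!
# Rank and cohomology of direct images along blow-ups
-/

set_option autoImplicit false
set_option linter.style.haveILetI false
set_option backward.isDefEq.respectTransparency false

universe u

open CategoryTheory CategoryTheory.Limits AlgebraicGeometry TopologicalSpace Opposite

noncomputable section

namespace Groth.L13.PairBlow

theorem nonempty_pull_push_of_isIso {Z W : Scheme.{u}} (g : Z ⟶ W) [IsIso g] (N : Z.Modules) :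
    Nonempty ((Scheme.Modules.pullback g).obj ((Scheme.Modules.pushforward g).obj N) ≅ N) := by
  let adj := Scheme.Modules.pullbackPushforwardAdjunction g
  haveI := Groth.L07.DiffOpSheaf.isIso_unit_of_isIso g ((Scheme.Modules.pushforward g).obj N)
  have h : IsIso ((Scheme.Modules.pushforward g).map (adj.counit.app N)) :=
    IsIso.of_isIso_fac_left (adj.right_triangle_components N)
  refine ⟨@asIso _ _ _ _ (adj.counit.app N) ?_⟩
  rw [Scheme.Modules.Hom.isIso_iff_isIso_app]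
  intro V
  obtain ⟨V', rfl⟩ : ∃ V', g ⁻¹ᵁ V' = V := ⟨g ''ᵁ V, g.preimage_image_eq V⟩
  exact Scheme.Modules.Hom.isIso_iff_isIso_app.1 h V'

variable {X Y : Scheme.{u}} {σ : Y ⟶ X} {I : X.IdealSheafData}

/-- The rank of a locally free direct image along a blow-up. -/
theorem isFinLocFreeOfRank_push [IrreducibleSpace X] (hb : BlowUp.IsBlowUp σ I)
    (hne : ∃ x : X, x ∉ I.support) {M : Y.Modules} {r : ℕ} (hr : FlatMod.IsFinLocFreeOfRank r M)
    (hM : FlatMod.IsFinLocFree M) (hP : FlatMod.IsFinLocFree ((Scheme.Modules.pushforward σ).obj M)) :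
    FlatMod.IsFinLocFreeOfRank r ((Scheme.Modules.pushforward σ).obj M) := by
  intro x
  obtain ⟨W, n, hxW, ⟨i⟩⟩ := hP x
  suffices hn : n = r from ⟨W, hxW, ⟨hn ▸ i⟩⟩
  let C : X.Opens := I.support.compl
  haveI := Groth.L22.Ideals.isIso_restrict_compl hb
  obtain ⟨w, hw⟩ : ∃ w, w ∈ W ⊓ C := by
    obtain ⟨w, -, hw⟩ := PreirreducibleSpace.isPreirreducible_univ W.1 C.1 W.2 C.2 ⟨x, trivial, hxW⟩
      (hne.elim fun y hy => ⟨y, trivial, hy⟩)
    exact ⟨w, hw⟩
  haveI : IsIso (σ ∣_ (W ⊓ C)) := by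
    have h : MorphismProperty.isomorphisms Scheme.{u} ((σ ∣_ C) ∣_ (C.ι ⁻¹ᵁ W)) :=
      IsZariskiLocalAtTarget.restrict (P := MorphismProperty.isomorphisms Scheme.{u})
        (inferInstanceAs (IsIso (σ ∣_ C))) _
    have h2 := ((MorphismProperty.isomorphisms Scheme.{u}).arrow_mk_iso_iff
      (morphismRestrictRestrict σ C (C.ι ⁻¹ᵁ W))).1 h
    have he : C.ι ''ᵁ (C.ι ⁻¹ᵁ W) = W ⊓ C := by
      rw [Scheme.Hom.image_preimage_eq_opensRange_inf, Scheme.Opens.opensRange_ι, inf_comm]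
    rw [he] at h2
    exact h2
  obtain ⟨i'⟩ := Groth.L29.LocFree.restrict_le (inf_le_left : W ⊓ C ≤ W) i
  let O := σ ⁻¹ᵁ (W ⊓ C)
  let g := σ ∣_ (W ⊓ C)
  have e := (Groth.L17.PushQCoh.pushRestrictIso σ (W ⊓ C).ι O.ι g
    (by rw [Scheme.Opens.opensRange_ι, Scheme.Opens.opensRange_ι]) (morphismRestrict_ι σ (W ⊓ C))).app M
  obtain ⟨c⟩ := nonempty_pull_push_of_isIso g (M.restrict O.ι)
  let fr : M.restrict O.ι ≅ FlatMod.freeMod (↑O) n :=
    c.symm ≪≫ (Scheme.Modules.pullback g).mapIso (e.symm ≪≫ i') ≪≫ Groth.L29.LocFree.pullbackFreeIso g n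
  let y : (O : Scheme.{u}) := inv g ⟨w, hw⟩
  obtain ⟨V, hyV, ⟨fV⟩⟩ := hr y.1
  haveI : Coh.IsQCoh M := Groth.L29.DC.PCQCoh.isQCoh_of_isFinLocFree hM
  exact Groth.L20.DescLocus.rk_unique M V.ι ⟨y.1, hyV⟩
    (((Scheme.Modules.restrictFunctorIsoPullback V.ι).app M).symm ≪≫ fV)
    (Opens.mem_sSup.2 ⟨O, ⟨((Scheme.Modules.restrictFunctorIsoPullback O.ι).app M).symm ≪≫ fr⟩, y.2⟩)

variable (k : Type u) [Field k] [X.Over (Spec (CommRingCat.of k))] [Y.Over (Spec (CommRingCat.of k))]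

/-- Acyclic direct images have the same cohomology, linearly. -/
theorem nonempty_HH_linearEquiv (f : Y ⟶ X) [QuasiCompact f] [QuasiSeparated f] [X.IsSeparated]
    [HasInjectiveResolutions Y.Modules]
    (hf : f ≫ (X ↘ Spec (CommRingCat.of k)) = Y ↘ Spec (CommRingCat.of k)) (M : Y.Modules) [Coh.IsQCoh M]
    (h : ∀ q : ℕ, IsZero ((Coh.Rpush f (q + 1)).obj M)) (p : ℕ) :
    Nonempty (Coh.HH Y M p ≃ₗ[k] Coh.HH X ((Coh.push f).obj M) p) := by
  haveI : Coh.IsQCoh ((Coh.push f).obj M) := Groth.L16.QcqsPush.isQCoh_push M f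
  let V : X.affineOpens → X.Opens := fun U => U.1
  have hV : ∀ (n : ℕ) (a : Fin (n + 1) → X.affineOpens), IsAffineOpen (⨅ j, V (a j)) :=
    fun n a => IsAffineOpen.iInf fun j => (a j).2
  obtain ⟨e, he⟩ := Groth.L16.PushCompare.exists_HH_push f M V (iSup_affineOpens_eq_top X)
    (fun n a q => Groth.L22.Inter.subsingleton_HU_preimage f M (hV n a) q (h q))
    (fun n a q => subsingleton_of_forall_eq 0 (Groth.L17.hu_affine_eq_zero _ (hV n a) q)) p
  exact ⟨{ e with
    map_smul' := fun a x => by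
      have h0 : Coh.toGlobal (Y ↘ Spec (CommRingCat.of k)) a =
          (show Coh.Γtop Y from f.appTop (Coh.toGlobal (X ↘ Spec (CommRingCat.of k)) a)) :=
        congrArg (fun g : Y ⟶ Spec (CommRingCat.of k) => Coh.toGlobal g a) hf.symm
      exact (congrArg e (congrArg (fun c : Coh.Γtop Y => c • x) h0)).trans
        (he (Coh.toGlobal (X ↘ Spec (CommRingCat.of k)) a) x) }⟩

end Groth.L13.PairBlow
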