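import Groth.Agent.L13.PairBlow.Gen
import Groth.Agent.L08.Cube.Inverse
import Groth.Agent.L08.Cube.PushTriv
import Groth.Agent.L19.AmpleAffineLocus
import Groth.Agent.L17.FlatBase.CxTools
import Groth.Agent.L16.HomSh.FullyFaithful

/-!
# Blow-ups in two generators: sections extend across the exceptional divisor
-/

set_option autoImplicit false
set_option linter.style.haveILetI false
set_option backward.isDefEq.respectTransparency false

universe u

open CategoryTheory CategoryTheory.Limits AlgebraicGeometry TopologicalSpace Opposite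
open Groth.L18.Frame (rs ro rs_rs rs_self rs_smul ro_ro IsFrame)
open Groth.L00.Tensor (tensorMap tensorRightF tensorRestrict tensorAssoc tensorComm tensorUnitRight tensorUnitLeft tensorIso)
open Groth.L18.Ample (hom_app_rs)
open Groth.L11.BlowSmooth (sI)
open Groth.L13.BU (idealOf)
open Groth.L13.BlowP1 (exIdeal gl sec Charts)
open Groth.L13.PointBlow (mulI)

noncomputable section

namespace Groth.L13.PairBlow

variable {Y : Scheme.{u}} {A : Type u} [CommRing A] {f : Fin 2 → A} {σ : Y ⟶ Spec (CommRingCat.of A)}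

theorem bijective_app_of_restrict {M N : Y.Modules} (φ : M ⟶ N) {W : Y.Opens}
    (h : IsIso ((Scheme.Modules.restrictFunctor W.ι).map φ)) {V : Y.Opens} (hV : V ≤ W) :
    Function.Bijective (φ.app V) := by
  have h1 : IsIso (φ.app (W.ι ''ᵁ (W.ι ⁻¹ᵁ V))) := Scheme.Modules.Hom.isIso_iff_isIso_app.1 h (W.ι ⁻¹ᵁ V)
  rw [show W.ι ''ᵁ (W.ι ⁻¹ᵁ V) = V by
    rw [Scheme.Hom.image_preimage_eq_opensRange_inf, Scheme.Opens.opensRange_ι, inf_eq_right.mpr hV]] at h1
  exact (ConcreteCategory.isIso_iff_bijective _).1 h1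

theorem frame_sec (hb : BlowUp.IsBlowUp σ (idealOf (sI f))) (C : Charts f σ) (i : Fin 2) :
    IsIso ((Scheme.Modules.restrictFunctor (C.W i).ι).map
      (Groth.L16.homOfSection (ClSub.idealMod (exIdeal f σ)) (sec f σ i))) := by
  refine Groth.L08.Cube.isIso_restrict_of_frame _ (Groth.L19.AmpleAffine.isFrame_one (C.W i)) ?_
  rw [Groth.L16.homOfSection_app, one_smul]
  exact Groth.L13.BlowP1.frame_sec ((Groth.Agent.L19.IdealInvertible.isEffCartier_iff _).2 hb.1) C i

/-- On the chart `W i`, tensoring with the section `f i` is an isomorphism. -/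
theorem isIso_restrict_tensor_sec (hb : BlowUp.IsBlowUp σ (idealOf (sI f))) (C : Charts f σ) (i : Fin 2)
    (M : Y.Modules) :
    IsIso ((Scheme.Modules.restrictFunctor (C.W i).ι).map
      (tensorMap (Groth.L16.homOfSection (ClSub.idealMod (exIdeal f σ)) (sec f σ i)) (𝟙 M))) := by
  haveI := frame_sec hb C i
  have h := Groth.L29.DC.tensorRestrict_natural (C.W i).ι
    (Groth.L16.homOfSection (ClSub.idealMod (exIdeal f σ)) (sec f σ i)) (𝟙 M)
  rw [CategoryTheory.Functor.map_id] at h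
  haveI : IsIso (tensorMap ((Scheme.Modules.restrictFunctor (C.W i).ι).map
      (Groth.L16.homOfSection (ClSub.idealMod (exIdeal f σ)) (sec f σ i)))
      (𝟙 ((Scheme.Modules.restrictFunctor (C.W i).ι).obj M))) :=
    (tensorIso (asIso ((Scheme.Modules.restrictFunctor (C.W i).ι).map
      (Groth.L16.homOfSection (ClSub.idealMod (exIdeal f σ)) (sec f σ i)))) (Iso.refl _)).isIso_hom
  have h2 : (Scheme.Modules.restrictFunctor (C.W i).ι).map
      (tensorMap (Groth.L16.homOfSection (ClSub.idealMod (exIdeal f σ)) (sec f σ i)) (𝟙 M)) = _ :=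
    (IsIso.eq_inv_comp _).2 h.symm
  rw [h2]
  infer_instance

/-- On the chart `W i`, multiplication by the section `f i` is bijective. -/
theorem bijective_secMap (hb : BlowUp.IsBlowUp σ (idealOf (sI f))) (C : Charts f σ) (i : Fin 2) (M : Y.Modules)
    {V : Y.Opens} (hV : V ≤ C.W i) : Function.Bijective ((secMap f σ M i).app V) := by
  have h1 : IsIso ((Scheme.Modules.restrictFunctor (C.W i).ι).map (secMap f σ M i)) := by
    haveI := isIso_restrict_tensor_sec hb C i M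
    rw [secMap, Functor.map_comp]
    exact IsIso.comp_isIso' inferInstance this
  exact bijective_app_of_restrict _ h1 hV

theorem mono_mulI {M : Y.Modules} (hM : FlatMod.IsFinLocFree M) : Mono (mulI (exIdeal f σ) M) := by
  obtain ⟨S, hS, e₁, e₂, hf, -⟩ := exists_seq (exIdeal f σ) hM
  haveI := hS.mono_f
  have : mulI (exIdeal f σ) M = e₁.inv ≫ S.f ≫ e₂.hom := by
    rw [hf]; simp
  rw [this]
  infer_instance

theorem smulF_app (M : Y.Modules) (i : Fin 2) (V : Y.Opens) (m : Γ(M, V)) :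
    (smulF f σ M i).app V m = gl σ V (f i) • m := rfl

theorem mulI_secMap_app (M : Y.Modules) (i : Fin 2) (V : Y.Opens) (m : Γ(M, V)) :
    (mulI (exIdeal f σ) M).app V ((secMap f σ M i).app V m) = gl σ V (f i) • m :=
  (congr(($(secMap_mulI f σ M i)).app V m)).trans (smulF_app M i V m)

/-- Multiplication by `f i` is injective on the chart `W i`. -/
theorem smul_eq_zero_imp (hb : BlowUp.IsBlowUp σ (idealOf (sI f))) (C : Charts f σ) (i : Fin 2) {M : Y.Modules}
    (hM : FlatMod.IsFinLocFree M) {V : Y.Opens} (hV : V ≤ C.W i) (n : ℕ) (m : Γ(M, V))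
    (hm : gl σ V (f i) ^ n • m = 0) : m = 0 := by
  induction n generalizing m with
  | zero => rwa [pow_zero, one_smul] at hm
  | succ n ih =>
    rw [pow_succ, mul_smul] at hm
    have h := ih _ hm
    rw [← mulI_secMap_app] at h
    haveI := mono_mulI (f := f) (σ := σ) hM
    apply (bijective_secMap hb C i M hV).1
    rw [map_zero]
    apply Groth.L17.CxTools.injective_app (mulI (exIdeal f σ) M) V
    rw [map_zero]
    exact h

/-- The complement of the exceptional divisor. -/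
abbrev off (f : Fin 2 → A) (σ : Y ⟶ Spec (CommRingCat.of A)) : Y.Opens :=
  Y.basicOpen (ProjUP.toGlobal σ (f 0)) ⊔ Y.basicOpen (ProjUP.toGlobal σ (f 1))

theorem basicOpen_le_off (i : Fin 2) : Y.basicOpen (ProjUP.toGlobal σ (f i)) ≤ off f σ := by
  fin_cases i
  exacts [le_sup_left, le_sup_right]

theorem basicOpen_le_chart (C : Charts f σ) (i : Fin 2) : Y.basicOpen (ProjUP.toGlobal σ (f i)) ≤ C.W i := by
  intro y hy
  obtain ⟨j, hj⟩ := C.cover y
  have h1 : y ∈ Y.basicOpen (gl σ (C.W j) (f i)) := by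
    show y ∈ Y.basicOpen (Y.presheaf.map (homOfLE (le_top : C.W j ≤ ⊤)).op (ProjUP.toGlobal σ (f i)))
    rw [Scheme.basicOpen_res]
    exact ⟨hj, hy⟩
  rw [C.gl_gen, Scheme.basicOpen_mul] at h1
  exact C.basicOpen_F j i h1.1

theorem basicOpen_gl (V : Y.Opens) (a : A) :
    Y.basicOpen (gl σ V a) = V ⊓ Y.basicOpen (ProjUP.toGlobal σ a) :=
  Scheme.basicOpen_res Y _ _

theorem inf_off_le (C : Charts f σ) (i : Fin 2) : C.W i ⊓ off f σ ≤ Y.basicOpen (gl σ (C.W i) (f i)) := by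
  rintro y ⟨hyi, hy⟩
  rw [basicOpen_gl]
  obtain ⟨j, hj⟩ : ∃ j, y ∈ Y.basicOpen (ProjUP.toGlobal σ (f j)) := by
    rcases hy with hy | hy
    exacts [⟨0, hy⟩, ⟨1, hy⟩]
  refine ⟨hyi, ?_⟩
  have h1 : y ∈ Y.basicOpen (gl σ (C.W i) (f j)) := by rw [basicOpen_gl]; exact ⟨hyi, hj⟩
  rw [C.gl_gen, Scheme.basicOpen_mul] at h1
  have h2 := h1.2
  rw [basicOpen_gl] at h2
  exact h2.2

/-- A section vanishing off the exceptional divisor is zero. -/
theorem eq_zero_of_rs_off (hb : BlowUp.IsBlowUp σ (idealOf (sI f))) {M : Y.Modules}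
    (hM : FlatMod.IsFinLocFree M) {V : Y.Opens} (m : Γ(M, V))
    (hm : rs M (inf_le_left : V ⊓ off f σ ≤ V) m = 0) : m = 0 := by
  haveI : Coh.IsQCoh M := Groth.L29.DC.PCQCoh.isQCoh_of_isFinLocFree hM
  obtain ⟨C⟩ := Groth.L13.BlowP1.nonempty_charts hb
  refine Groth.L21.Extend.eq_of_locally M _ _ fun y hy => ?_
  obtain ⟨i, hi⟩ := C.cover y
  obtain ⟨U, hU, hyU, hUle⟩ := exists_isAffineOpen_mem_and_subset (x := y) (U := V ⊓ C.W i) ⟨hy, hi⟩
  have h1 : U ≤ V := fun z hz => (hUle hz).1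
  have h2 : U ≤ C.W i := fun z hz => (hUle hz).2
  refine ⟨U, h1, hyU, ?_⟩
  show rs M h1 m = rs M h1 0
  rw [show rs M h1 (0 : Γ(M, V)) = 0 from map_zero _]
  have h3 : Y.basicOpen (gl σ U (f i)) ≤ V ⊓ off f σ := by
    rw [basicOpen_gl]
    exact inf_le_inf h1 (basicOpen_le_off i)
  have h0 : rs M (Y.basicOpen_le (gl σ U (f i))) (rs M h1 m) = 0 := by
    rw [rs_rs, ← rs_rs M (inf_le_left : V ⊓ off f σ ≤ V) h3, hm]
    exact map_zero _
  obtain ⟨n, hn⟩ := Groth.L16.QCohSect.exists_pow_smul_eq_zero hU M _ _ h0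
  exact smul_eq_zero_imp hb C i hM h2 n _ hn

/-- The vanishing of sections of `N|_E`, in the form `O_E ⊗ N`. -/
def Van (f : Fin 2 → A) (σ : Y ⟶ Spec (CommRingCat.of A)) (N : Y.Modules) : Prop :=
  Subsingleton Γ(CohB1.tensorMod (ClSub.quotMod (exIdeal f σ)) N, ⊤)

theorem Van.of_iso {N N' : Y.Modules} (h : Van f σ N) (e : N ≅ N') : Van f σ N' :=
  haveI : Subsingleton Γ(CohB1.tensorMod (ClSub.quotMod (exIdeal f σ)) N, ⊤) := h
  Function.Injective.subsingleton (f := (tensorIso (Iso.refl (ClSub.quotMod (exIdeal f σ))) e).inv.app ⊤)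
    (Groth.L17.CxTools.injective_app _ ⊤)

theorem van_of_sections {N : Y.Modules} (hN : FlatMod.IsFinLocFree N)
    (h : Subsingleton (Coh.HH (exIdeal f σ).subscheme
      ((Scheme.Modules.pullback (exIdeal f σ).subschemeι).obj N) 0)) : Van f σ N := by
  let I := exIdeal f σ
  let e : CohB1.tensorMod (ClSub.quotMod I) N ≅ (Scheme.Modules.pushforward I.subschemeι).obj
      ((Scheme.Modules.pullback I.subschemeι).obj N) :=
    tensorComm (ClSub.quotMod I) N ≪≫
      (Groth.L17.ProjFormula.projIso I.subschemeι N hN).app (Coh.structureModule I.subscheme) ≪≫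
        (Scheme.Modules.pushforward I.subschemeι).mapIso (tensorUnitRight _)
  haveI : Subsingleton Γ((Scheme.Modules.pullback I.subschemeι).obj N, ⊤) :=
    (Groth.L16.HomSh.h0Equiv _).symm.toEquiv.subsingleton
  haveI : Subsingleton Γ((Scheme.Modules.pushforward I.subschemeι).obj
      ((Scheme.Modules.pullback I.subschemeι).obj N), ⊤) :=
    inferInstanceAs (Subsingleton Γ((Scheme.Modules.pullback I.subschemeι).obj N, ⊤))
  exact Function.Injective.subsingleton (f := e.hom.app ⊤) (Groth.L17.CxTools.injective_app _ ⊤)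

variable {L : Y.Modules} (eL : CohB1.tensorMod L (ClSub.idealMod (exIdeal f σ)) ≅ Coh.structureModule Y)

/-- `I ⊗ (N ⊗ L) ≅ N` -/
def untwist (N : Y.Modules) :
    CohB1.tensorMod (ClSub.idealMod (exIdeal f σ)) (CohB1.tensorMod N L) ≅ N :=
  tensorComm _ _ ≪≫ tensorAssoc N L _ ≪≫ tensorIso (Iso.refl N) eL ≪≫ tensorUnitRight N

/-- Twisting by `L` keeps the vanishing. -/
theorem Van.twist (hb : BlowUp.IsBlowUp σ (idealOf (sI f))) {N : Y.Modules} (h : Van f σ N)
    (eL : CohB1.tensorMod L (ClSub.idealMod (exIdeal f σ)) ≅ Coh.structureModule Y) :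
    Van f σ (CohB1.tensorMod N L) := by
  obtain ⟨C⟩ := Groth.L13.BlowP1.nonempty_charts hb
  let Q := ClSub.quotMod (exIdeal f σ)
  haveI : Subsingleton Γ(CohB1.tensorMod Q N, ⊤) := h
  refine subsingleton_of_forall_eq (0 : Γ(CohB1.tensorMod Q (CohB1.tensorMod N L), ⊤)) fun t => ?_
  refine Groth.L21.Extend.eq_of_locally _ _ _ fun y _ => ?_
  obtain ⟨i, hi⟩ := C.cover y
  refine ⟨C.W i, le_top, hi, ?_⟩
  let θ : CohB1.tensorMod N L ⟶ N := secMap f σ _ i ≫ (untwist eL N).hom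
  have h1 : IsIso ((Scheme.Modules.restrictFunctor (C.W i).ι).map (tensorMap (𝟙 Q) θ)) := by
    haveI h2 : IsIso ((Scheme.Modules.restrictFunctor (C.W i).ι).map θ) := by
      haveI := isIso_restrict_tensor_sec hb C i (CohB1.tensorMod N L)
      simp only [θ, secMap, Functor.map_comp]
      exact IsIso.comp_isIso' (IsIso.comp_isIso' inferInstance this) inferInstance
    haveI : IsIso (tensorMap ((Scheme.Modules.restrictFunctor (C.W i).ι).map (𝟙 Q))
        ((Scheme.Modules.restrictFunctor (C.W i).ι).map θ)) :=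
      (tensorIso (asIso ((Scheme.Modules.restrictFunctor (C.W i).ι).map (𝟙 Q)))
        (asIso ((Scheme.Modules.restrictFunctor (C.W i).ι).map θ))).isIso_hom
    have h3 := Groth.L29.DC.tensorRestrict_natural (C.W i).ι (𝟙 Q) θ
    rw [(IsIso.eq_inv_comp _).2 h3.symm]
    infer_instance
  apply (bijective_app_of_restrict _ h1 le_rfl).1
  show (tensorMap (𝟙 Q) θ).app (C.W i) (rs _ le_top t) = (tensorMap (𝟙 Q) θ).app (C.W i) (rs _ le_top 0)
  rw [hom_app_rs, hom_app_rs, Subsingleton.elim ((tensorMap (𝟙 Q) θ).app ⊤ t) ((tensorMap (𝟙 Q) θ).app ⊤ 0)]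

/-- The twists `M ⊗ L^n`, with their inclusion of `M`. -/
theorem exists_twist (hb : BlowUp.IsBlowUp σ (idealOf (sI f))) (C : Charts f σ) {M : Y.Modules}
    (hM : FlatMod.IsFinLocFree M) (hL : PicF.IsInvertible L) (hv : Van f σ (CohB1.tensorMod M L))
    (eL : CohB1.tensorMod L (ClSub.idealMod (exIdeal f σ)) ≅ Coh.structureModule Y) :
    ∀ n : ℕ, ∃ (N : Y.Modules) (φ : M ⟶ N), FlatMod.IsFinLocFree N ∧ Van f σ (CohB1.tensorMod N L) ∧
      Mono φ ∧ Function.Surjective (φ.app ⊤) ∧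
      ∀ (i : Fin 2) (x : Γ(M, C.W i)), ∃ u : Γ(N, C.W i), φ.app (C.W i) x = gl σ (C.W i) (f i) ^ n • u
  | 0 => ⟨M, 𝟙 M, hM, hv, inferInstance, fun t => ⟨t, rfl⟩, fun i x => ⟨x, by rw [pow_zero, one_smul]; rfl⟩⟩
  | n + 1 => by
    obtain ⟨N, φ, hN, hvN, hmono, hsurj, hdvd⟩ := exists_twist hb C hM hL hv eL n
    have hN' : FlatMod.IsFinLocFree (CohB1.tensorMod N L) :=
      Groth.L29.DC.isFinLocFree_tensor hN (Groth.L16.Existence.isFinLocFree_of_isInvertible hL)
    haveI := mono_mulI (f := f) (σ := σ) hN'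
    let ψ : N ⟶ CohB1.tensorMod N L := (untwist eL N).inv ≫ mulI (exIdeal f σ) _
    refine ⟨CohB1.tensorMod N L, φ ≫ ψ, hN', hvN.twist hb eL, inferInstance, ?_, fun i x => ?_⟩
    · intro s
      obtain ⟨S, hS, e₁, e₂, hf, ⟨e₃⟩⟩ := exists_seq (exIdeal f σ) hN'
      haveI : Subsingleton Γ(S.X₃, ⊤) := by
        let e₃' : S.X₃ ≅ CohB1.tensorMod (ClSub.quotMod (exIdeal f σ)) (CohB1.tensorMod N L) :=
          e₃ ≪≫ (Scheme.Modules.pushforward _).mapIso (tensorUnitRight _).symm ≪≫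
            ((Groth.L17.ProjFormula.projIso _ _ hN').app _).symm ≪≫ tensorComm _ _
        haveI : Subsingleton Γ(CohB1.tensorMod (ClSub.quotMod (exIdeal f σ)) (CohB1.tensorMod N L), ⊤) := hvN
        exact Function.Injective.subsingleton (f := e₃'.hom.app ⊤) (Groth.L17.CxTools.injective_app _ ⊤)
      haveI := hS.mono_f
      obtain ⟨a, ha⟩ : ∃ a, S.f.app ⊤ a = e₂.inv.app ⊤ s := by
        obtain ⟨y, hy⟩ := ((Groth.L16.CohLinear.exact_hmap_hmap hS 0)
          ((Groth.L16.HomSh.h0Equiv S.X₂).symm (e₂.inv.app ⊤ s))).1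
          ((Groth.L16.HomSh.h0Equiv S.X₃).injective (Subsingleton.elim _ _))
        refine ⟨Groth.L16.HomSh.h0Equiv S.X₁ y, (Groth.L16.HomSh.h0Equiv_map S.f y).symm.trans ?_⟩
        exact (congrArg _ hy).trans ((Groth.L16.HomSh.h0Equiv S.X₂).apply_symm_apply _)
      obtain ⟨t, ht⟩ := hsurj ((untwist eL N).hom.app ⊤ (e₁.hom.app ⊤ a))
      refine ⟨t, ?_⟩
      show ψ.app ⊤ (φ.app ⊤ t) = s
      rw [ht]
      show (mulI (exIdeal f σ) _).app ⊤ ((untwist eL N).inv.app ⊤ ((untwist eL N).hom.app ⊤ (e₁.hom.app ⊤ a))) = s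
      rw [show (untwist eL N).inv.app ⊤ ((untwist eL N).hom.app ⊤ (e₁.hom.app ⊤ a)) = e₁.hom.app ⊤ a from
        congr(($((untwist eL N).hom_inv_id)).app ⊤ (e₁.hom.app ⊤ a))]
      have h := congrArg (e₂.hom.app ⊤) ha
      rw [hf] at h
      exact (congr(($(e₂.inv_hom_id)).app ⊤ _).symm.trans h).trans congr(($(e₂.inv_hom_id)).app ⊤ s)
    · obtain ⟨u, hu⟩ := hdvd i x
      obtain ⟨v, hv'⟩ := (bijective_secMap hb C i (CohB1.tensorMod N L) le_rfl).2 ((untwist eL N).inv.app (C.W i) u)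
      refine ⟨v, ?_⟩
      show ψ.app (C.W i) (φ.app (C.W i) x) = _
      rw [hu, Scheme.Modules.Hom.app_smul, pow_succ, mul_smul]
      congr 1
      show (mulI (exIdeal f σ) _).app _ ((untwist eL N).inv.app (C.W i) u) = _
      rw [← hv', mulI_secMap_app]

/-- Sections off the exceptional divisor extend, uniquely. -/
theorem bijective_rs_off (hb : BlowUp.IsBlowUp σ (idealOf (sI f))) {M : Y.Modules} (hM : FlatMod.IsFinLocFree M)
    (hneg : ∀ L : Y.Modules, ClSub.IsInverseOf L (ClSub.idealMod (exIdeal f σ)) →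
      Subsingleton (Coh.HH (exIdeal f σ).subscheme
        ((Scheme.Modules.pullback (exIdeal f σ).subschemeι).obj (CohB1.tensorMod M L)) 0)) :
    Function.Bijective (fun t : Γ(M, ⊤) => rs M (le_top : off f σ ≤ ⊤) t) := by
  refine ⟨fun t t' htt => ?_, fun m => ?_⟩
  · rw [← sub_eq_zero]
    refine eq_zero_of_rs_off hb hM _ ?_
    have h : rs M (le_top : off f σ ≤ ⊤) (t - t') = 0 := by
      rw [show rs M (le_top : off f σ ≤ ⊤) (t - t') = rs M le_top t - rs M le_top t' from map_sub _ _ _, sub_eq_zero]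
      exact htt
    rw [← rs_rs M (le_top : off f σ ≤ ⊤) (inf_le_right : ⊤ ⊓ off f σ ≤ off f σ), h]
    exact map_zero _
  haveI : Coh.IsQCoh M := Groth.L29.DC.PCQCoh.isQCoh_of_isFinLocFree hM
  obtain ⟨C⟩ := Groth.L13.BlowP1.nonempty_charts hb
  obtain ⟨L, hL, ⟨e⟩⟩ := Groth.L08.Cube.exists_inverse
    ((Groth.Agent.L19.IdealInvertible.isEffCartier_iff _).2 hb.1)
  let eL := tensorComm L _ ≪≫ e
  have hML : FlatMod.IsFinLocFree (CohB1.tensorMod M L) :=
    Groth.L29.DC.isFinLocFree_tensor hM (Groth.L16.Existence.isFinLocFree_of_isInvertible hL)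
  have hv := van_of_sections hML (hneg L ⟨eL⟩)
  have hB : ∀ i, Y.basicOpen (gl σ (C.W i) (f i)) ≤ off f σ := fun i => by
    rw [basicOpen_gl]; exact inf_le_right.trans (basicOpen_le_off i)
  choose n t ht using fun i => Groth.L16.QCohSect.exists_pow_smul_eq_res (C.affine i) M (gl σ (C.W i) (f i))
    (rs M (hB i) m)
  obtain ⟨K, hK⟩ := (Set.finite_range n).bddAbove
  obtain ⟨N, φ, hN, -, hmono, hsurj, hdvd⟩ := exists_twist hb C hM hL hv eL K
  haveI := hmono
  choose u hu using fun i => hdvd i (gl σ (C.W i) (f i) ^ (K - n i) • t i)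
  have huB : ∀ i, rs N (Y.basicOpen_le _) (u i) = φ.app _ (rs M (hB i) m) := by
    intro i
    have h := congrArg (rs N (Y.basicOpen_le (gl σ (C.W i) (f i)))) (hu i)
    rw [← hom_app_rs, rs_smul, rs_smul, ht, ← mul_smul, ← Groth.L18.Frame.ro_mul, ← pow_add,
      Nat.sub_add_cancel (hK ⟨i, rfl⟩), Scheme.Modules.Hom.app_smul] at h
    have hu' : IsUnit (ro (Y.basicOpen_le (gl σ (C.W i) (f i))) (gl σ (C.W i) (f i) ^ K)) := by
      rw [show ro (Y.basicOpen_le (gl σ (C.W i) (f i))) (gl σ (C.W i) (f i) ^ K) = _ from map_pow _ _ K]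
      exact (Y.toRingedSpace.isUnit_res_basicOpen (gl σ (C.W i) (f i))).pow K
    exact (hu'.smul_left_cancel.1 h).symm
  have hcompat : ∀ i j, rs N (inf_le_left : C.W i ⊓ C.W j ≤ C.W i) (u i) =
      rs N (inf_le_right : C.W i ⊓ C.W j ≤ C.W j) (u j) := by
    intro i j
    rw [← sub_eq_zero]
    refine eq_zero_of_rs_off hb hN _ ?_
    have hi : C.W i ⊓ C.W j ⊓ off f σ ≤ Y.basicOpen (gl σ (C.W i) (f i)) :=
      (inf_le_inf inf_le_left le_rfl).trans (inf_off_le C i)
    have hj : C.W i ⊓ C.W j ⊓ off f σ ≤ Y.basicOpen (gl σ (C.W j) (f j)) :=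
      (inf_le_inf inf_le_right le_rfl).trans (inf_off_le C j)
    rw [show rs N inf_le_left (rs N (inf_le_left : C.W i ⊓ C.W j ≤ C.W i) (u i) - rs N inf_le_right (u j)) = _ from
      map_sub (N.presheaf.map (homOfLE _).op).hom _ _, sub_eq_zero]
    show rs N inf_le_left (rs N _ (u i)) = rs N inf_le_left (rs N _ (u j))
    rw [rs_rs, rs_rs, ← rs_rs N (Y.basicOpen_le _) hi, ← rs_rs N (Y.basicOpen_le _) hj, huB, huB,
      ← hom_app_rs, ← hom_app_rs, rs_rs, rs_rs]
  let ON : TopCat.Sheaf Ab.{u} Y.toTopCat := ⟨N.presheaf, N.isSheaf⟩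
  obtain ⟨s, hs, -⟩ := ON.existsUnique_gluing' C.W ⊤ (fun i => homOfLE le_top)
    (fun y _ => Opens.mem_iSup.2 (C.cover y)) u hcompat
  obtain ⟨t', ht'⟩ := hsurj s
  refine ⟨t', ?_⟩
  show rs M le_top t' = m
  refine Groth.L21.Extend.eq_of_locally M _ _ fun y hy => ?_
  obtain ⟨i, hi⟩ := C.cover y
  refine ⟨Y.basicOpen (gl σ (C.W i) (f i)), hB i, inf_off_le C i ⟨hi, hy⟩, ?_⟩
  apply Groth.L17.CxTools.injective_app φ
  show φ.app _ (rs M (hB i) (rs M le_top t')) = φ.app _ (rs M (hB i) m)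
  rw [rs_rs, hom_app_rs, ht', ← huB i, ← hs i]
  exact (rs_rs N _ _ s).symm

end Groth.L13.PairBlow
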