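import Groth.Agent.L13.PairBlow.Local
import Groth.Agent.L17.AffinePush
import Groth.Agent.L10.Proper.DisjointH

/-!
# No first cohomology on the exceptional divisor
-/

set_option autoImplicit false
set_option linter.style.haveILetI false
set_option backward.isDefEq.respectTransparency false

universe u

open CategoryTheory CategoryTheory.Limits AlgebraicGeometry TopologicalSpace Opposite
open Groth.L11.BlowSmooth (sI)
open Groth.L13.BU (idealOf)
open Groth.L13.BlowP1 (exIdeal)
open Groth.L13.PointBlow (pre preι opensRange_preι)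
open Groth.L10

noncomputable section

namespace Groth.L13.PairBlow

/-- Cohomology on a clopen vanishes when the whole does. -/
theorem subsingleton_ext_clopen {X : TopCat.{u}} (F : CohTop.Ab X) (O : Opens X) (hO : IsClosed (O : Set X)) (n : ℕ)
    (h : Subsingleton (CohTop.H F n)) :
    Subsingleton (CategoryTheory.Abelian.Ext (SiteCoh.fs (Opens.grothendieckTopology X) O) F n) := by
  let Os : ULift.{u} Bool → Opens X := fun b => cond b.down O ⟨(O : Set X)ᶜ, hO.isOpen_compl⟩
  obtain ⟨e⟩ := Groth.L10.Proper.nonempty_fs_top_iso Os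
    (fun x => (em (x ∈ O)).elim (fun h => ⟨⟨true⟩, h⟩) fun h => ⟨⟨false⟩, h⟩)
    (by
      rintro ⟨i⟩ ⟨k⟩ x hi hk
      cases i <;> cases k
      · rfl
      · exact absurd hk hi
      · exact absurd hi hk
      · rfl)
  haveI : Subsingleton (CategoryTheory.Abelian.Ext (∐ fun b => SiteCoh.fs (Opens.grothendieckTopology X) (Os b)) F n) := by
    have hT : Subsingleton (CategoryTheory.Abelian.Ext (SiteCoh.fs (Opens.grothendieckTopology X) ⊤) F n) :=
      (SiteCoh.hEquiv (TopCoh.topTerminal X) F n).symm.toEquiv.subsingleton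
    exact Function.Injective.subsingleton (f := fun z => (CategoryTheory.Abelian.Ext.mk₀ e.inv).comp z (zero_add n))
      fun x y h => by simpa using congrArg (fun z => (CategoryTheory.Abelian.Ext.mk₀ e.hom).comp z (zero_add n)) h
  have hb := Groth.L10.Proper.bijective_ext_sigma
    (fun b => SiteCoh.fs (Opens.grothendieckTopology X) (Os b)) F n
  refine subsingleton_of_forall_eq 0 fun y => ?_
  classical
  obtain ⟨z, hz⟩ := hb.2 (Function.update (fun _ => 0) ⟨true⟩ y)
  have h1 := congrFun hz ⟨true⟩
  rw [Function.update_self, Subsingleton.elim z 0] at h1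
  exact h1.symm.trans (by simp)

variable {X Y : Scheme.{u}} {σ : Y ⟶ X} {I : X.IdealSheafData} [IsLocallyNoetherian X]

/-- No first cohomology on the exceptional divisor descends to the charts. -/
theorem subsingleton_HH_exc_pre [IsProper σ]
    (hclop : ∀ U : X.Opens, IsClosed ((U : Set X) ∩ I.support))
    (U : X.affineOpens) (f : Fin 2 → Γ(X, U.1)) (hI : I.ideal U = sI f) {M : Y.Modules} [Coh.IsQCoh M]
    (h : Subsingleton (Coh.HH (BlowUp.exceptional σ I).subscheme
      ((Scheme.Modules.pullback (BlowUp.exceptional σ I).subschemeι).obj M) 1)) :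
    Subsingleton (Coh.HH (pre σ U) ((Scheme.Modules.pushforward (exIdeal f (pullback.fst U.2.fromSpec σ)).subschemeι).obj
      ((Scheme.Modules.pullback (exIdeal f (pullback.fst U.2.fromSpec σ)).subschemeι).obj
        ((Scheme.Modules.pullback (preι σ U)).obj M))) 1) := by
  rw [exIdeal_pre U f hI]
  set E := BlowUp.exceptional σ I
  let j := (E.comapIso (preι σ U)).hom ≫ pullback.snd _ _
  have hj : j ≫ E.subschemeι = (E.comap (preι σ U)).subschemeι ≫ preι σ U := by
    simp only [j, Category.assoc, ← pullback.condition, Scheme.IdealSheafData.comapIso_hom_fst_assoc]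
  let τ := E.subschemeι ≫ σ
  let τ' := (E.comap (preι σ U)).subschemeι ≫ pullback.fst U.2.fromSpec σ
  let G := (Scheme.Modules.pullback E.subschemeι).obj M
  haveI hGq : Coh.IsQCoh G := Groth.L16.AffineBC.isQCoh_pullback _ M
  have hrange : j.opensRange = τ ⁻¹ᵁ U.1 := by
    rw [Scheme.Hom.opensRange_comp_of_isIso, Scheme.Hom.opensRange_pullbackSnd, opensRange_preι]
    rfl
  have hclosed : IsClosed ((τ ⁻¹ᵁ U.1 : E.subscheme.Opens) : Set E.subscheme) := by
    have h1 : ((τ ⁻¹ᵁ U.1 : E.subscheme.Opens) : Set E.subscheme) = τ ⁻¹' ((U.1 : Set X) ∩ I.support) := by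
      ext z
      refine ⟨fun hz => ⟨hz, ?_⟩, fun hz => hz.1⟩
      have h2 : E.subschemeι z ∈ (E.support : Set Y) := by
        rw [← Scheme.IdealSheafData.range_subschemeι]; exact ⟨z, rfl⟩
      exact (Scheme.IdealSheafData.support_comap I σ).le h2
    rw [h1]
    exact (hclop U.1).preimage τ.continuous
  haveI := Groth.L17.PushQCoh.hasInjectiveResolutions E.subscheme
  haveI := Groth.L17.PushQCoh.hasInjectiveResolutions (E.comap (preι σ U)).subscheme
  haveI : Subsingleton Γ((Coh.Rpush τ 1).obj G, U.1) :=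
    @Equiv.subsingleton _ _ (Groth.L17.CohSections.equiv τ U.2 G 1).symm.toEquiv
      (subsingleton_ext_clopen (X := E.subscheme.toTopCat) _ _ hclosed 1 h)
  obtain ⟨e⟩ := Groth.L17.PushQCoh.nonempty_Rpush_restrict_iso τ U.2.fromSpec j τ'
    (by rw [U.2.opensRange_fromSpec, hrange])
    (by simp only [τ, τ', Category.assoc, pullback.condition]; rw [← Category.assoc, ← hj, Category.assoc]) G 1
  haveI : Subsingleton Γ(((Coh.Rpush τ 1).obj G).restrict U.2.fromSpec, ⊤) := by
    show Subsingleton Γ((Coh.Rpush τ 1).obj G, U.2.fromSpec ''ᵁ ⊤)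
    rw [Scheme.Hom.image_top_eq_opensRange, U.2.opensRange_fromSpec]
    infer_instance
  haveI : Subsingleton Γ((Coh.Rpush τ' 1).obj (G.restrict j), ⊤) :=
    Function.Injective.subsingleton (f := e.inv.app ⊤) (Groth.L17.CxTools.injective_app _ ⊤)
  haveI : Coh.IsQCoh (G.restrict j) := Scheme.Modules.isQuasicoherent_restrictFunctor _ G
  obtain ⟨ε⟩ := Groth.L17.ProperCoh.nonempty_Γ_Rpush_equiv τ' (G.restrict j) 1
  have h1 : Subsingleton (Coh.HH (E.comap (preι σ U)).subscheme (G.restrict j) 1) :=
    @Equiv.subsingleton _ _ ε.toEquiv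
      (show Subsingleton Γ((Coh.Rpush τ' 1).obj (G.restrict j), ⊤) from inferInstance)
  refine Groth.L14.LocHilbLift.subsingleton_HH_push _ _ 1 ?_
  exact Groth.L14.LocHilbLift.subsingleton_HH_of_iso
    ((Scheme.Modules.restrictFunctorIsoPullback j).app G ≪≫ (Scheme.Modules.pullbackComp j E.subschemeι).app M ≪≫
      (Scheme.Modules.pullbackCongr hj).app M ≪≫ ((Scheme.Modules.pullbackComp _ (preι σ U)).app M).symm) 1 h1

/-- No first cohomology on the exceptional divisor implies no higher direct images. -/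
theorem isZero_Rpush_of_exc (hb : BlowUp.IsBlowUp σ I) (hp : LocallyPair I)
    (hclop : ∀ U : X.Opens, IsClosed ((U : Set X) ∩ I.support)) [IsProper σ]
    [HasInjectiveResolutions Y.Modules] {M : Y.Modules} (hM : FlatMod.IsFinLocFree M)
    (h : Subsingleton (Coh.HH (BlowUp.exceptional σ I).subscheme
      ((Scheme.Modules.pullback (BlowUp.exceptional σ I).subschemeι).obj M) 1))
    (i : ℕ) (hi : 0 < i) : IsZero ((Coh.Rpush σ i).obj M) := by
  haveI : Coh.IsQCoh M := Groth.L29.DC.PCQCoh.isQCoh_of_isFinLocFree hM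
  refine isZero_Rpush_of_charts hb hp M (fun U f hI q => ?_) i hi
  haveI : IsNoetherianRing Γ(X, U.1) := IsLocallyNoetherian.component_noetherian U
  haveI : Coh.IsQCoh (M.restrict (preι σ U)) := Scheme.Modules.isQuasicoherent_restrictFunctor _ M
  rcases q with _ | q
  · exact Groth.L14.LocHilbLift.subsingleton_HH_of_iso
      ((Scheme.Modules.restrictFunctorIsoPullback (preι σ U)).app M).symm 1
      (subsingleton_H1_of_exc (isBlowUp_pre hb U f hI)
        (Groth.L20.DescLocus.isFinLocFree_pullback (preι σ U) hM) (subsingleton_HH_exc_pre hclop U f hI h))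
  · exact subsingleton_H_ge_two (isBlowUp_pre hb U f hI) _ _ (by omega)

end Groth.L13.PairBlow
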