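import Groth.Agent.L13.PairBlow.Descend
import Groth.Agent.L15.Ref.FreeLocus
import Groth.Agent.L04.RegularPd
import Groth.Agent.L01.Regular
import Groth.Agent.L20.ResDescent
import Groth.Agent.L07.RatSection
import Groth.Agent.L16.Exist.PushPull

/-!
# Direct images along blow-ups of points of regular surfaces are locally free
-/

set_option autoImplicit false
set_option linter.style.haveILetI false
set_option backward.isDefEq.respectTransparency false

universe u

open CategoryTheory CategoryTheory.Limits AlgebraicGeometry TopologicalSpace Opposite RingTheory.Sequence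
open Groth.L18.Frame (rs ro rs_rs rs_self rs_smul ro_ro)
open Groth.L11.BlowSmooth (sI)
open Groth.L20.ModStalk (germ_rs germ_smul)

noncomputable section

namespace Groth.L13.PairBlow

variable {X Y : Scheme.{u}} {σ : Y ⟶ X} {I : X.IdealSheafData}

/-- Centres: finitely many regular closed points of surfaces, with two local equations. -/
structure GoodCentre (I : X.IdealSheafData) : Prop where
  clop : ∀ U : X.Opens, IsClosed ((U : Set X) ∩ I.support)
  regular : ∀ x ∈ I.support, IsRegularLocalRing (X.presheaf.stalk x)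
  dim_le : ∀ x ∈ I.support, ringKrullDim (X.presheaf.stalk x) ≤ (2 : ℕ)
  pair : ∀ x ∈ I.support, ∃ (U : X.affineOpens) (f : Fin 2 → Γ(X, U.1)) (hxU : x ∈ U.1),
    I.ideal U = sI f ∧ X.presheaf.germ U.1 x hxU (f 0) ≠ 0

theorem GoodCentre.locallyPair (h : GoodCentre I) : LocallyPair I := fun x hx => by
  obtain ⟨U, f, hxU, hI, -⟩ := h.pair x hx
  exact ⟨U, f, hxU, hI⟩

/-- A regular pair on a module over a regular local ring of dimension at most two makes it flat. -/
theorem flat_of_regular_pair {R : Type u} [CommRing R] [IsRegularLocalRing R] (hd : ringKrullDim R ≤ (2 : ℕ))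
    (M : Type u) [AddCommGroup M] [Module R M] [Module.Finite R M] {b y : R}
    (hb : b ∈ IsLocalRing.maximalIdeal R) (hy : y ∈ IsLocalRing.maximalIdeal R)
    (hb0 : ∀ n : M, b • n = 0 → n = 0)
    (hy0 : ∀ n : M, y • n ∈ (Ideal.span {b} • ⊤ : Submodule R M) → n ∈ (Ideal.span {b} • ⊤ : Submodule R M)) :
    Module.Flat R M := by
  have hdep : 2 ≤ LocCoh.depth R M := by
    unfold LocCoh.depth LocCoh.idealDepth
    split
    · exact le_top
    refine le_iSup₂_of_le [b, y] ⟨?_, by rw [List.forall_mem_cons, List.forall_mem_cons]; exact ⟨hb, hy, by simp⟩⟩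
      (by simp)
    rw [isWeaklyRegular_cons_iff, isWeaklyRegular_singleton_iff]
    refine ⟨isSMulRegular_iff_right_eq_zero_of_smul.mpr hb0, isSMulRegular_iff_right_eq_zero_of_smul.mpr fun q hq => ?_⟩
    obtain ⟨n, rfl⟩ := Submodule.Quotient.mk_surjective _ q
    rw [← Submodule.Quotient.mk_smul, Submodule.Quotient.mk_eq_zero, ← Submodule.ideal_span_singleton_smul] at hq
    rw [Submodule.Quotient.mk_eq_zero, ← Submodule.ideal_span_singleton_smul]
    exact hy0 n hq
  obtain ⟨d, hdR⟩ : ∃ d : ℕ, ringKrullDim R = d := Groth.L01.exists_dim_eq_nat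
  have hd2 : d ≤ 2 := by rw [hdR] at hd; exact_mod_cast hd
  haveI : HasProjectiveDimensionLE (ModuleCat.of R M) 0 :=
    Groth.L04.hasProjectiveDimensionLE_of_dim_le_add_depth M hdR (by
      rw [Nat.cast_zero, zero_add]
      exact le_trans (by exact_mod_cast hd2) hdep)
  haveI : HasProjectiveDimensionLT (ModuleCat.of R M) 1 := by assumption
  haveI : Projective (ModuleCat.of R M) := projective_iff_hasProjectiveDimensionLT_one.2 inferInstance
  haveI : Module.Projective R M := (IsProjective.iff_projective (R := R) M).2 inferInstance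
  infer_instance

/-- Dividing a relation, for a module with Hartogs' property on a chart. -/
theorem exists_section_div (F : X.Modules) {W : X.Opens} {u v : Γ(X, W)}
    (hbij : Function.Bijective (rs F (sup_le (X.basicOpen_le u) (X.basicOpen_le v))))
    (a b : Γ(F, W)) (h : v • a = u • b) : ∃ c : Γ(F, W), u • c = a := by
  set D₀ := X.basicOpen u
  set D₁ := X.basicOpen v
  have hu : IsUnit (ro (X.basicOpen_le u) u) := X.toRingedSpace.isUnit_res_basicOpen u
  have hv : IsUnit (ro (X.basicOpen_le v) v) := X.toRingedSpace.isUnit_res_basicOpen v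
  obtain ⟨u', hu'⟩ := hu.exists_left_inv
  obtain ⟨v', hv'⟩ := hv.exists_left_inv
  let t : ∀ i : Fin 2, Γ(F, ![D₀, D₁] i) := Fin.cons (show Γ(F, D₀) from u' • rs F (X.basicOpen_le u) a)
    fun i => Fin.cases (show Γ(F, D₁) from v' • rs F (X.basicOpen_le v) b) (fun j => j.elim0) i
  have hu2 : ∀ (T : X.Opens) (hT : T ≤ D₀), ro hT u' * ro (hT.trans (X.basicOpen_le u)) u = 1 := fun T hT => by
    rw [← ro_ro (X.basicOpen_le u) hT, ← Groth.L18.Frame.ro_mul, hu']
    exact map_one _
  have hv2 : ∀ (T : X.Opens) (hT : T ≤ D₁), ro hT v' * ro (hT.trans (X.basicOpen_le v)) v = 1 := fun T hT => by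
    rw [← ro_ro (X.basicOpen_le v) hT, ← Groth.L18.Frame.ro_mul, hv']
    exact map_one _
  have hcompat : ∀ (T : X.Opens) (h0 : T ≤ D₀) (h1 : T ≤ D₁),
      rs F h0 (u' • rs F (X.basicOpen_le u) a) = rs F h1 (v' • rs F (X.basicOpen_le v) b) := by
    intro T h0 h1
    have hT : T ≤ W := h0.trans (X.basicOpen_le u)
    have h' := congrArg (rs F hT) h
    rw [rs_smul, rs_smul] at h'
    rw [rs_smul, rs_smul, rs_rs, rs_rs]
    calc ro h0 u' • rs F hT a = ro h0 u' • (ro h1 v' * ro hT v) • rs F hT a := by rw [hv2 T h1, one_smul]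
      _ = ro h0 u' • ro h1 v' • ro hT u • rs F hT b := by rw [mul_smul, h']
      _ = ro h1 v' • rs F hT b := by
        rw [smul_comm (ro h1 v') (ro hT u), ← mul_smul, hu2 T h0, one_smul]
  let OF : TopCat.Sheaf Ab.{u} X.toTopCat := ⟨F.presheaf, F.isSheaf⟩
  obtain ⟨d, hd, -⟩ := OF.existsUnique_gluing' ![D₀, D₁] (D₀ ⊔ D₁)
    (fun i => homOfLE (by fin_cases i; exacts [le_sup_left, le_sup_right]))
    (fun z hz => Opens.mem_iSup.2 (by rcases hz with hz | hz; exacts [⟨0, hz⟩, ⟨1, hz⟩]))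
    t fun i j => by
      fin_cases i <;> fin_cases j
      · rfl
      · exact hcompat _ inf_le_left inf_le_right
      · exact (hcompat _ inf_le_right inf_le_left).symm
      · rfl
  obtain ⟨c, hc⟩ := hbij.2 d
  refine ⟨c, hbij.1 ?_⟩
  refine Groth.L21.Extend.eq_of_locally F _ _ fun z hz => ?_
  have hd0 : rs F (le_sup_left : D₀ ≤ D₀ ⊔ D₁) d = u' • rs F (X.basicOpen_le u) a := hd 0
  have hd1 : rs F (le_sup_right : D₁ ≤ D₀ ⊔ D₁) d = v' • rs F (X.basicOpen_le v) b := hd 1
  rcases hz with hz | hz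
  · refine ⟨D₀, le_sup_left, hz, ?_⟩
    show rs F le_sup_left (rs F _ (u • c)) = rs F le_sup_left (rs F _ a)
    rw [rs_rs, rs_rs, rs_smul, ← rs_rs F (sup_le (X.basicOpen_le u) (X.basicOpen_le v)) (le_sup_left : D₀ ≤ D₀ ⊔ D₁) c, hc, hd0, ← mul_smul, mul_comm, hu',
      one_smul]
  · refine ⟨D₁, le_sup_right, hz, ?_⟩
    show rs F le_sup_right (rs F _ (u • c)) = rs F le_sup_right (rs F _ a)
    rw [rs_rs, rs_rs, rs_smul, ← rs_rs F (sup_le (X.basicOpen_le u) (X.basicOpen_le v)) (le_sup_right : D₁ ≤ D₀ ⊔ D₁) c, hc, hd1]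
    calc ro _ u • v' • rs F (X.basicOpen_le v) b = v' • (ro (X.basicOpen_le v) u • rs F (X.basicOpen_le v) b) := smul_comm _ _ _
      _ = v' • (ro (X.basicOpen_le v) v • rs F (X.basicOpen_le v) a) := by rw [← rs_smul, ← h, rs_smul]
      _ = rs F (X.basicOpen_le v) a := by rw [← mul_smul, hv', one_smul]

variable [IsLocallyNoetherian X]

theorem isProper_of_locallyPair (hb : BlowUp.IsBlowUp σ I) : IsProper σ :=
  Groth.L13.BU.isProper_blowUp hb fun U =>
    haveI : IsNoetherianRing Γ(X, U.1) := IsLocallyNoetherian.component_noetherian U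
    IsNoetherian.noetherian _

omit [IsLocallyNoetherian X] in
/-- Away from the centre the direct image is locally free. -/
theorem isFinLocFree_restrict_compl (hb : BlowUp.IsBlowUp σ I) {M : Y.Modules} (hM : FlatMod.IsFinLocFree M) :
    FlatMod.IsFinLocFree (((Scheme.Modules.pushforward σ).obj M).restrict (Scheme.Opens.ι (I.support.compl : X.Opens))) := by
  let C : X.Opens := I.support.compl
  haveI : IsIso (σ ∣_ C) := Groth.L22.Ideals.isIso_restrict_compl hb
  have e := (Groth.L17.PushQCoh.pushRestrictIso σ C.ι (σ ⁻¹ᵁ C).ι (σ ∣_ C)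
    (by rw [Scheme.Opens.opensRange_ι, Scheme.Opens.opensRange_ι]) (morphismRestrict_ι σ C)).app M
  refine Groth.L29.LocFree.of_iso e.symm ?_
  refine Groth.L20.ResDescent.isFinLocFree_push (σ ∣_ C) ⟨inferInstance, inferInstance, inferInstance⟩ _ ?_
  exact Groth.L29.LocFree.of_iso ((Scheme.Modules.restrictFunctorIsoPullback _).app M).symm
    (Groth.L20.DescLocus.isFinLocFree_pullback _ hM)

/-- At a point of the centre the stalk of the direct image is free. -/
theorem flat_stalk_push (hb : BlowUp.IsBlowUp σ I) (hc : GoodCentre I) {M : Y.Modules}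
    (hM : FlatMod.IsFinLocFree M) (hneg : Neg σ I M) {x : X} (hx : x ∈ I.support) :
    FlatMod.IsFlatAt ((Scheme.Modules.pushforward σ).obj M) x := by
  haveI := isProper_of_locallyPair hb
  let F := (Scheme.Modules.pushforward σ).obj M
  have hF : Coh.IsCoh F := Groth.L16.Exist.isCoh_pushforward σ (Groth.L16.NegPow.isCoh_of_isFinLocFree hM)
  haveI := hc.regular x hx
  haveI := Groth.L01.isDomain_of_regular (X.presheaf.stalk x)
  obtain ⟨U, f, hxU, hI, hf0⟩ := hc.pair x hx
  obtain ⟨V, hxV, hVaff, hVint⟩ := Groth.L07.RatSection.exists_integral_nhd x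
  let C : X.Opens := I.support.compl
  let b := X.presheaf.germ U.1 x hxU (f 0)
  let y := X.presheaf.germ U.1 x hxU (f 1)
  have hmem : ∀ i, X.presheaf.germ U.1 x hxU (f i) ∈ IsLocalRing.maximalIdeal (X.presheaf.stalk x) := fun i => by
    refine (IsLocalRing.mem_maximalIdeal _).2 fun hu => ?_
    have h1 : x ∈ (I.support : Set X) ∩ U.1 := ⟨hx, hxU⟩
    rw [Scheme.IdealSheafData.coe_support_inter] at h1
    exact (X.mem_zeroLocus_iff _ _).1 h1.1 (f i) (hI ▸ Ideal.subset_span ⟨i, rfl⟩)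
      ((Scheme.mem_basicOpen X (f i) x hxU).2 hu)
  /- the key property, at small basic opens of the chart -/
  have key : ∀ (W' : X.Opens), x ∈ W' → ∃ (W : X.Opens) (hWU : W ≤ U.1) (hxW : x ∈ W), W ≤ W' ∧ W ≤ V ∧
      Function.Bijective (rs F (sup_le (X.basicOpen_le (ro hWU (f 0))) (X.basicOpen_le (ro hWU (f 1))))) ∧
      (∀ z (hz : z ∈ W), X.presheaf.germ U.1 z (hWU hz) (f 0) ≠ 0) ∧
      (∀ i, X.basicOpen (ro hWU (f i)) ≤ C) := by
    intro W' hxW'
    obtain ⟨g, hgle, hxg⟩ := U.2.exists_basicOpen_le (V := W' ⊓ V) ⟨x, hxW', hxV⟩ hxU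
    let W : X.affineOpens := X.affineBasicOpen g
    have hWU : W.1 ≤ U.1 := X.basicOpen_le g
    have hI' : I.ideal W = sI fun i => ro hWU (f i) := by
      rw [show I.ideal W = _ from (I.map_ideal_basicOpen U g).symm, hI, sI, Ideal.map_span, ← Set.range_comp]
      rfl
    refine ⟨W.1, hWU, hxg, fun z hz => (hgle hz).1, fun z hz => (hgle hz).2, bijective_rs_chart hb hc.clop W _ hI' hM hneg, ?_, fun i => ?_⟩
    · intro z hz h0
      haveI : IsIntegral (V : Scheme.{u}) := hVint
      have hWV : W.1 ≤ V := fun z hz => (hgle hz).2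
      haveI : Nonempty (W.1 : Scheme.{u}) := ⟨⟨x, hxg⟩⟩
      haveI : IsIntegral (W.1 : Scheme.{u}) := isIntegral_of_isOpenImmersion (X.homOfLE hWV)
      haveI : IsDomain Γ(X, W.1) :=
        MulEquiv.isDomain Γ(W.1.toScheme, ⊤) W.1.topIso.commRingCatIsoToRingEquiv.symm.toMulEquiv
      have hne : ro hWU (f 0) ≠ 0 := fun h => hf0 (by
        rw [← TopCat.Presheaf.germ_res_apply X.presheaf (homOfLE hWU) x hxg (f 0)]
        exact (congrArg _ h).trans (map_zero _))
      letI := X.presheaf.algebra_section_stalk ⟨z, hz⟩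
      haveI := W.2.isLocalization_stalk ⟨z, hz⟩
      refine hne (IsLocalization.injective (X.presheaf.stalk z)
        (Ideal.primeCompl_le_nonZeroDivisors (W.2.primeIdealOf ⟨z, hz⟩).asIdeal) ?_)
      rw [map_zero]
      exact (TopCat.Presheaf.germ_res_apply X.presheaf (homOfLE hWU) z hz (f 0)).trans h0
    · intro z hz hzI
      have h1 : z ∈ (I.support : Set X) ∩ W.1 := ⟨hzI, X.basicOpen_le _ hz⟩
      rw [Scheme.IdealSheafData.coe_support_inter] at h1
      exact (X.mem_zeroLocus_iff _ _).1 h1.1 _ (hI' ▸ Ideal.subset_span ⟨i, rfl⟩) hz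
  have hfreeC : ∀ z ∈ C, Module.Free (X.presheaf.stalk z) (F.presheaf.stalk z) := fun z hz =>
    Groth.L15.Ref.free_of_restrict F hF (isFinLocFree_restrict_compl hb hM) hz
  /- regularity on germs -/
  have hb0 : ∀ n : F.presheaf.stalk x, b • n = 0 → n = 0 := by
    intro n hn
    obtain ⟨W₁, hxW₁, a, rfl⟩ := TopCat.Presheaf.exists_germ_eq F.presheaf n
    have h1 : F.presheaf.germ (W₁ ⊓ U.1) x ⟨hxW₁, hxU⟩ (ro (inf_le_right : W₁ ⊓ U.1 ≤ U.1) (f 0) • rs F (inf_le_left : W₁ ⊓ U.1 ≤ W₁) a) =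
        F.presheaf.germ (W₁ ⊓ U.1) x ⟨hxW₁, hxU⟩ 0 := by
      rw [germ_smul, germ_rs, map_zero]
      exact (congrArg (· • _) (TopCat.Presheaf.germ_res_apply X.presheaf (homOfLE inf_le_right) x ⟨hxW₁, hxU⟩ (f 0))).trans hn
    obtain ⟨W₂, hxW₂, i₁, i₂, h2⟩ := TopCat.Presheaf.germ_eq F.presheaf x _ _ _ _ h1
    obtain ⟨W, hWU, hxW, hW₂, hWV, hbij, hne, hC⟩ := key W₂ hxW₂
    have hle : W ≤ W₁ := hW₂.trans (i₁.le.trans inf_le_left)
    have h3 : ro hWU (f 0) • rs F hle a = 0 := by
      have h4 : rs F i₁.le (ro (inf_le_right : W₁ ⊓ U.1 ≤ U.1) (f 0) • rs F (inf_le_left : W₁ ⊓ U.1 ≤ W₁) a) = 0 := h2.trans (map_zero _)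
      have h5 := congrArg (rs F hW₂) h4
      rw [rs_smul, rs_smul, rs_rs, rs_rs, ro_ro, ro_ro, show rs F hW₂ (0 : Γ(F, W₂)) = 0 from map_zero _] at h5
      exact h5
    have h6 : rs F hle a = 0 := hbij.1 (by
      rw [show rs F (sup_le (X.basicOpen_le (ro hWU (f 0))) (X.basicOpen_le (ro hWU (f 1)))) (0 : Γ(F, W)) = 0 from
        map_zero _]
      refine TopCat.Presheaf.section_ext ((Groth.L21.Mod.toAbSh X).obj F) _ _ _ fun w hw => ?_
      show F.presheaf.germ _ w hw (rs F _ (rs F hle a)) = F.presheaf.germ _ w hw 0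
      rw [map_zero, germ_rs]
      have hwW : w ∈ W := (sup_le (X.basicOpen_le _) (X.basicOpen_le _) : _ ≤ W) hw
      have h7 := congrArg (F.presheaf.germ W w hwW) h3
      rw [germ_smul, map_zero, show X.presheaf.germ W w hwW (ro hWU (f 0)) = _ from
        TopCat.Presheaf.germ_res_apply X.presheaf (homOfLE hWU) w hwW (f 0)] at h7
      have hwC : w ∈ C := by
        rcases hw with hw | hw
        exacts [hC 0 hw, hC 1 hw]
      haveI := hfreeC w hwC
      haveI : IsDomain (X.presheaf.stalk w) := by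
        haveI : IsIntegral (V : Scheme.{u}) := hVint
        have hwV : w ∈ V := hWV hwW
        exact MulEquiv.isDomain (V.toScheme.presheaf.stalk ⟨w, hwV⟩)
          (V.stalkIso ⟨w, hwV⟩).commRingCatIsoToRingEquiv.symm.toMulEquiv
      exact (smul_eq_zero.1 h7).resolve_left (hne w hwW))
    rw [← germ_rs F hle hxW a, h6, map_zero]
  have hy0 : ∀ n : F.presheaf.stalk x, y • n ∈ (Ideal.span {b} • ⊤ : Submodule (X.presheaf.stalk x) (F.presheaf.stalk x)) →
      n ∈ (Ideal.span {b} • ⊤ : Submodule (X.presheaf.stalk x) (F.presheaf.stalk x)) := by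
    intro n hn
    rw [Submodule.ideal_span_singleton_smul, Submodule.mem_smul_pointwise_iff_exists] at hn
    obtain ⟨n', -, hn'⟩ := hn
    obtain ⟨W₁, hxW₁, a₁, rfl⟩ := TopCat.Presheaf.exists_germ_eq F.presheaf n
    obtain ⟨W₁', hxW₁', b₁, rfl⟩ := TopCat.Presheaf.exists_germ_eq F.presheaf n'
    let P : X.Opens := W₁ ⊓ W₁' ⊓ U.1
    have hPU : P ≤ U.1 := inf_le_right
    have hP1 : P ≤ W₁ := inf_le_left.trans inf_le_left
    have hP2 : P ≤ W₁' := inf_le_left.trans inf_le_right
    have hxP : x ∈ P := ⟨⟨hxW₁, hxW₁'⟩, hxU⟩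
    have h1 : F.presheaf.germ P x hxP (ro hPU (f 1) • rs F hP1 a₁) =
        F.presheaf.germ P x hxP (ro hPU (f 0) • rs F hP2 b₁) := by
      rw [germ_smul, germ_smul, germ_rs, germ_rs,
        show X.presheaf.germ P x hxP (ro hPU (f 0)) = _ from
          TopCat.Presheaf.germ_res_apply X.presheaf (homOfLE hPU) x hxP (f 0),
        show X.presheaf.germ P x hxP (ro hPU (f 1)) = _ from
          TopCat.Presheaf.germ_res_apply X.presheaf (homOfLE hPU) x hxP (f 1)]
      exact hn'.symm
    obtain ⟨W₂, hxW₂, i₁, i₂, h2⟩ := TopCat.Presheaf.germ_eq F.presheaf x _ _ _ _ h1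
    obtain ⟨W, hWU, hxW, hW₂, hWV, hbij, hne, hC⟩ := key W₂ hxW₂
    have hleP : W ≤ P := hW₂.trans i₁.le
    let a := rs F (hleP.trans hP1) a₁
    let b' := rs F (hleP.trans hP2) b₁
    have h3 : ro hWU (f 1) • a = ro hWU (f 0) • b' := by
      have h4 : rs F i₁.le (ro hPU (f 1) • rs F hP1 a₁) =
        rs F i₂.le (ro hPU (f 0) • rs F hP2 b₁) := h2
      have h5 := congrArg (rs F hW₂) h4
      simp only [rs_smul, rs_rs, ro_ro] at h5
      exact h5
    obtain ⟨c, hc'⟩ := exists_section_div F hbij a b' h3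
    rw [Submodule.ideal_span_singleton_smul, Submodule.mem_smul_pointwise_iff_exists]
    refine ⟨F.presheaf.germ W x hxW c, trivial, ?_⟩
    rw [← germ_rs F (hleP.trans hP1) hxW a₁]
    refine Eq.trans ?_ (congrArg (F.presheaf.germ W x hxW) hc')
    rw [germ_smul]
    exact congrArg (· • _) (TopCat.Presheaf.germ_res_apply X.presheaf (homOfLE hWU) x hxW (f 0)).symm
  haveI := Groth.L15.Ref.finite_stalk hF x
  show Module.Flat (X.presheaf.stalk x) (F.presheaf.stalk x)
  exact flat_of_regular_pair (hc.dim_le x hx) _ (hmem 0) (hmem 1) hb0 hy0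

/-- The direct image is finite locally free. -/
theorem isFinLocFree_push (hb : BlowUp.IsBlowUp σ I) (hc : GoodCentre I) {M : Y.Modules}
    (hM : FlatMod.IsFinLocFree M) (hneg : Neg σ I M) :
    FlatMod.IsFinLocFree ((Scheme.Modules.pushforward σ).obj M) := by
  haveI := isProper_of_locallyPair hb
  have hF := Groth.L16.Exist.isCoh_pushforward σ (Groth.L16.NegPow.isCoh_of_isFinLocFree hM)
  refine Groth.L15.CohFlat.isFinLocFree_of_isCoh_isFlat _ hF fun x => ?_
  by_cases hx : x ∈ I.support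
  · exact flat_stalk_push hb hc hM hneg hx
  · haveI := Groth.L15.Ref.free_of_restrict _ hF (isFinLocFree_restrict_compl hb hM) hx
    exact (inferInstance : Module.Flat (X.presheaf.stalk x) (((Scheme.Modules.pushforward σ).obj M).presheaf.stalk x))

end Groth.L13.PairBlow
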