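import Groth.Agent.L20.PnPic.Over
import Groth.Agent.L16.ProjSpace.AmpleIff
import Groth.Agent.L16.ProjSpace.Sections
import Groth.Agent.L16.ProjSpace.CohTwist
import Groth.Agent.L16.HomSh.FullyFaithful
import Groth.Agent.L13.PointBlow.Twist
import Groth.Agent.L17.FlatBase.CxTools

/-!
# Twisting sheaves of the projective line along isomorphisms
-/

set_option autoImplicit false
set_option linter.style.haveILetI false
set_option backward.isDefEq.respectTransparency false

universe u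

open CategoryTheory CategoryTheory.Limits AlgebraicGeometry TopologicalSpace Opposite

noncomputable section

namespace Groth.L13.PnTwist

variable {k : Type u} [Field k]

theorem cover (z : Proj (CohB1.polyGrading 1 k)) :
    ∃ f : CohB1.polyGrading 1 k 1, z ∈ Proj.basicOpen (CohB1.polyGrading 1 k) f.1 := by
  obtain ⟨j, hj⟩ := Groth.L16.ProjSpace.exists_mem_basicOpen_X 1 k z
  exact ⟨⟨_, Groth.L18.PS.X_mem 1 j⟩, hj⟩

theorem twist_zero : Nonempty (Twist.twistProjSpace 1 k 0 ≅ Coh.structureModule (CohB1.ProjSpace 1 k)) :=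
  Groth.L16.ProjTwist.nonempty_twist_zero_iso (CohB1.polyGrading 1 k)

theorem twist_add (a b : ℤ) : Nonempty (CohB1.tensorMod (Twist.twistProjSpace 1 k a) (Twist.twistProjSpace 1 k b) ≅
    Twist.twistProjSpace 1 k (a + b)) :=
  Groth.L16.ProjTwist.nonempty_tensor_twist_iso_one (CohB1.polyGrading 1 k) cover a b

/-- Powers of a module pulling back to a twist. -/
theorem pullback_pow {X : Scheme.{u}} (q : CohB1.ProjSpace 1 k ⟶ X) {T : X.Modules} {e : ℤ}
    (h : Nonempty ((Scheme.Modules.pullback q).obj T ≅ Twist.twistProjSpace 1 k e)) (n : ℕ) :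
    Nonempty ((Scheme.Modules.pullback q).obj (CohB1.tensorPow T n) ≅ Twist.twistProjSpace 1 k (n * e)) := by
  obtain ⟨t⟩ := Groth.L16.ProjTwist.nonempty_tensorPow_twist_iso (CohB1.polyGrading 1 k) e cover n
  exact ⟨Groth.L18.Ample.pullPow q T n ≪≫ Groth.L00.Tensor.tensorPowIso h.some n ≪≫ t⟩

/-- The inverse of a module pulling back to a twist. -/
theorem pullback_inverse {X : Scheme.{u}} (q : CohB1.ProjSpace 1 k ⟶ X) {I M : X.Modules} {e : ℤ}
    (hM : ClSub.IsInverseOf M I)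
    (h : Nonempty ((Scheme.Modules.pullback q).obj I ≅ Twist.twistProjSpace 1 k e)) :
    Nonempty ((Scheme.Modules.pullback q).obj M ≅ Twist.twistProjSpace 1 k (-e)) :=
  Groth.L13.PointBlow.inverse_unique (B := Twist.twistProjSpace 1 k e)
    (Groth.L00.Tensor.tensorIso (Iso.refl _) h.some.symm ≪≫ Groth.L29.DC.PullTensor.pullTensor q _ _ ≪≫
      (Scheme.Modules.pullback q).mapIso hM.some ≪≫ Groth.L29.LocFree.pullbackUnitIso q)
    ((twist_add (-e) e).some ≪≫ eqToIso (by norm_num) ≪≫ twist_zero.some)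

theorem nontrivial_sections (n : ℕ) : Nontrivial Γ(Twist.twistProjSpace 1 k (n : ℤ), ⊤) := by
  obtain ⟨e⟩ := Groth.L16.ProjSpace.nonempty_H0_twist_linearEquiv (n := 1) (R := k) n
  haveI : Nontrivial ↥(MvPolynomial.homogeneousSubmodule (Fin 2) k n) := by
    refine ⟨⟨⟨MvPolynomial.X 0 ^ n, ?_⟩, 0, fun h => ?_⟩⟩
    · exact (MvPolynomial.mem_homogeneousSubmodule n _).2 (MvPolynomial.isHomogeneous_X_pow 0 n)
    · exact pow_ne_zero n (MvPolynomial.X_ne_zero 0) (congrArg Subtype.val h)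
  haveI : Nontrivial (Coh.HH (CohB1.ProjSpace 1 k) (Twist.twistProjSpace 1 k (n : ℤ)) 0) :=
    e.toEquiv.nontrivial
  exact (Groth.L16.HomSh.h0Equiv _).toEquiv.symm.nontrivial

theorem nonneg_of_nontrivial {a : ℤ} (h : Nontrivial Γ(Twist.twistProjSpace 1 k a, ⊤)) : 0 ≤ a := by
  by_contra hlt
  haveI := Groth.L16.ProjSpace.subsingleton_HH_twist 1 k a 0 (by omega) (by omega)
  haveI : Subsingleton Γ(Twist.twistProjSpace 1 k a, ⊤) :=
    (Groth.L16.HomSh.h0Equiv (X := CohB1.ProjSpace 1 k) (Twist.twistProjSpace 1 k a)).symm.toEquiv.subsingleton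
  exact not_subsingleton Γ(Twist.twistProjSpace 1 k a, ⊤) inferInstance

theorem nontrivial_pullback {X Y : Scheme.{u}} (φ : X ⟶ Y) [IsIso φ] (M : Y.Modules) (h : Nontrivial Γ(M, ⊤)) :
    Nontrivial Γ((Scheme.Modules.pullback φ).obj M, ⊤) := by
  haveI : Nontrivial Γ(M.restrict φ, ⊤) := by
    show Nontrivial Γ(M, φ ''ᵁ ⊤)
    rw [Scheme.Hom.image_top_eq_opensRange, Scheme.Hom.opensRange_of_isIso]
    exact h
  exact Function.Injective.nontrivial (f := ((Scheme.Modules.restrictFunctorIsoPullback φ).app M).hom.app ⊤)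
    (Groth.L17.CxTools.injective_app _ ⊤)

/-- Isomorphisms of projective lines respect `O(1)`. -/
theorem pullback_one {k' : Type u} [Field k'] (φ : CohB1.ProjSpace 1 k' ≅ CohB1.ProjSpace 1 k) :
    Nonempty ((Scheme.Modules.pullback φ.hom).obj (Twist.twistProjSpace 1 k 1) ≅ Twist.twistProjSpace 1 k' 1) := by
  obtain ⟨a, ⟨ea⟩⟩ := Groth.L20.PnPic.exists_iso_twist ((Scheme.Modules.pullback φ.hom).obj (Twist.twistProjSpace 1 k 1))
    (Groth.L18.Ample.isInvertible_pullback φ.hom (Groth.L16.ProjTwist.isInvertible_twistProjSpace 1 k 1))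
  obtain ⟨b, ⟨eb⟩⟩ := Groth.L20.PnPic.exists_iso_twist ((Scheme.Modules.pullback φ.inv).obj (Twist.twistProjSpace 1 k' 1))
    (Groth.L18.Ample.isInvertible_pullback φ.inv (Groth.L16.ProjTwist.isInvertible_twistProjSpace 1 k' 1))
  haveI := nontrivial_pullback φ.hom _ (nontrivial_sections (k := k) 1)
  haveI := nontrivial_pullback φ.inv _ (nontrivial_sections (k := k') 1)
  have ha : 0 ≤ a := nonneg_of_nontrivial (Function.Injective.nontrivial (f := ea.hom.app ⊤)
    (Groth.L17.CxTools.injective_app _ ⊤))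
  have hb : 0 ≤ b := nonneg_of_nontrivial (Function.Injective.nontrivial (f := eb.hom.app ⊤)
    (Groth.L17.CxTools.injective_app _ ⊤))
  obtain ⟨m, rfl⟩ := Int.eq_ofNat_of_zero_le ha
  obtain ⟨n, rfl⟩ := Int.eq_ofNat_of_zero_le hb
  obtain ⟨t⟩ := Groth.L16.ProjTwist.nonempty_tensorPow_twist_iso (CohB1.polyGrading 1 k) 1 cover n
  obtain ⟨p⟩ := pullback_pow φ.hom ⟨ea⟩ n
  have hψ : Nonempty ((Scheme.Modules.pullback φ.hom).obj
      ((Scheme.Modules.pullback φ.inv).obj (Twist.twistProjSpace 1 k' 1)) ≅ Twist.twistProjSpace 1 k' 1) :=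
    ⟨(Scheme.Modules.pullbackComp φ.hom φ.inv).app _ ≪≫ (Scheme.Modules.pullbackCongr φ.hom_inv_id).app _ ≪≫
      (Scheme.Modules.pullbackId _).app _⟩
  let t' : CohB1.tensorPow (Twist.twistProjSpace 1 k 1) n ≅ Twist.twistProjSpace 1 k (n : ℤ) :=
    t ≪≫ eqToIso (by rw [mul_one]; rfl)
  have h1 : (n : ℤ) * m = 1 := Groth.L20.PnPic.twist_iso_inj (n := 1) le_rfl
    ⟨p.symm ≪≫ (Scheme.Modules.pullback φ.hom).mapIso (t' ≪≫ eb.symm) ≪≫ hψ.some⟩
  have hm : (m : ℤ) = 1 := by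
    have : n * m = 1 := by exact_mod_cast h1
    exact_mod_cast Nat.eq_one_of_mul_eq_one_left this
  exact ⟨ea ≪≫ eqToIso (by rw [hm])⟩

end Groth.L13.PnTwist
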