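import Groth.Agent.L13.PairBlow.FreeExc
import Groth.Agent.L20.DescLocus.Main

/-!
# Neighbourhoods of exceptional curves trivialising a module
-/

set_option autoImplicit false
set_option linter.style.haveILetI false
set_option backward.isDefEq.respectTransparency false

universe u

open CategoryTheory CategoryTheory.Limits AlgebraicGeometry TopologicalSpace Opposite
open Groth.L11.BlowSmooth (sI)
open Groth.L03.BlowPt (ptI)
open Groth.L13.BU (idealOf)
open Groth.L13.BlowP1 (exIdeal)
open Groth.L13.PointBlow (pre preι opensRange_preι)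

noncomputable section

namespace Groth.L13.PairBlow

theorem nonempty_iso_of_isEmpty {Z : Scheme.{u}} [IsEmpty Z] (M N : Z.Modules) : Nonempty (M ≅ N) := by
  have h : ∀ K : Z.Modules, IsZero K := fun K => (IsZero.iff_id_eq_zero K).2 <|
    Scheme.Modules.hom_ext _ _ fun V => ConcreteCategory.hom_ext _ _ fun t =>
      @Subsingleton.elim _ (Groth.L18.Ample.subsingleton_sections_bot K (eq_bot_iff.2 fun z _ => isEmptyElim z)) _ _
  exact ⟨(h M).iso (h N)⟩

variable {X Y : Scheme.{u}} [IsLocallyNoetherian X] {σ : Y ⟶ X} {I : X.IdealSheafData}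

/-- Near the exceptional curve over an isolated point of the centre a module trivial on that curve is trivial. -/
theorem exists_trivial_nhd (hb : BlowUp.IsBlowUp σ I) {x : X} (hx : IsClosed ({x} : Set X))
    (hreg : IsRegularLocalRing (X.presheaf.stalk x)) (hdim : ringKrullDim (X.presheaf.stalk x) = (2 : ℕ))
    (U : X.affineOpens) (f : Fin 2 → Γ(X, U.1)) (hxU : x ∈ U.1) (hI : I.ideal U = sI f)
    (hIx : (ptI hx).ideal U = sI f) {M : Y.Modules} (hM : FlatMod.IsFinLocFree M) (r : ℕ)
    (hE : Nonempty ((Scheme.Modules.pullback ((ptI hx).comap σ).subschemeι).obj M ≅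
      FlatMod.freeMod ((ptI hx).comap σ).subscheme r)) :
    ∃ V : Y.Opens, (((ptI hx).comap σ).support : Set Y) ⊆ (V : Set Y) ∧
      Nonempty (M.restrict V.ι ≅ FlatMod.freeMod (↑V) r) := by
  set E := (ptI hx).comap σ with hEdef
  by_cases hne : (E.support : Set Y).Nonempty
  swap
  · refine ⟨⊥, fun z hz => absurd ⟨z, hz⟩ hne, ?_⟩
    haveI : IsEmpty ((⊥ : Y.Opens) : Scheme.{u}) := ⟨fun z => z.2⟩
    exact nonempty_iso_of_isEmpty _ _
  let A := Γ(X, U.1)
  haveI : IsNoetherianRing A := IsLocallyNoetherian.component_noetherian U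
  let σ' : pre σ U ⟶ Spec Γ(X, U.1) := pullback.fst U.2.fromSpec σ
  let p := U.2.primeIdealOf ⟨x, hxU⟩
  have hpx : U.2.fromSpec p = x := U.2.fromSpec_primeIdealOf _
  have hp : IsClosed ({p} : Set (Spec Γ(X, U.1))) := by
    refine (PrimeSpectrum.isClosed_singleton_iff_isMaximal _).2 ?_
    rw [← Groth.L03.BlowPt.ideal_ptI hx U hxU]
    exact Groth.L03.BlowPt.isMaximal_ptI hx U hxU
  haveI := hreg
  have hregp : IsRegularLocalRing ((Spec Γ(X, U.1)).presheaf.stalk p) := by
    haveI : IsRegularLocalRing (X.presheaf.stalk (U.2.fromSpec p)) := hpx ▸ hreg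
    exact IsRegularLocalRing.of_ringEquiv (asIso (U.2.fromSpec.stalkMap p)).commRingCatIsoToRingEquiv
  have hdimp : ringKrullDim ((Spec Γ(X, U.1)).presheaf.stalk p) = (2 : ℕ) := by
    rw [← ringKrullDim_eq_of_ringEquiv (asIso (U.2.fromSpec.stalkMap p)).commRingCatIsoToRingEquiv, hpx]
    exact hdim
  have hideal : idealOf (sI f) = ptI hp := by
    let T : (Spec Γ(X, U.1)).affineOpens := ⟨⊤, isAffineOpen_top _⟩
    have hle : idealOf (sI f) ≤ ptI hp := by
      rw [← Scheme.IdealSheafData.le_support_iff_le_vanishingIdeal, ← hIx, ← Groth.L11.BlowSmooth.comap_fromSpec,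
        Scheme.IdealSheafData.support_comap]
      intro q hq
      rw [show q = p from hq]
      show U.2.fromSpec p ∈ (ptI hx).support
      simp [hpx, ← SetLike.mem_coe]
    refine Scheme.IdealSheafData.ext_of_isAffine ?_
    haveI : (sI f).IsMaximal := hIx ▸ Groth.L03.BlowPt.isMaximal_ptI hx U hxU
    have hm : ((idealOf (sI f)).ideal T).IsMaximal := by
      rw [Groth.L13.BU.idealOf_top]
      exact Ideal.map_isMaximal_of_equiv (Scheme.ΓSpecIso Γ(X, U.1)).commRingCatIsoToRingEquiv.symm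
    exact hm.eq_of_le (Groth.L03.BlowPt.isMaximal_ptI hp T (Set.mem_univ p)).ne_top (hle T)
  have hbσ : BlowUp.IsBlowUp σ' (ptI hp) := hideal ▸ isBlowUp_pre hb U f hI
  have hexc : BlowUp.exceptional σ' (ptI hp) = E.comap (preι σ U) := by
    rw [← hideal]
    exact exIdeal_pre U f hIx
  let M' := (Scheme.Modules.pullback (preι σ U)).obj M
  let j := (E.comapIso (preι σ U)).hom ≫ pullback.snd _ _
  have hj : j ≫ E.subschemeι = (E.comap (preι σ U)).subschemeι ≫ preι σ U := by
    simp only [j, Category.assoc, ← pullback.condition, Scheme.IdealSheafData.comapIso_hom_fst_assoc]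
  let e : (Scheme.Modules.pullback (E.comap (preι σ U)).subschemeι).obj M' ≅
      FlatMod.freeMod (E.comap (preι σ U)).subscheme r :=
    (Scheme.Modules.pullbackComp _ (preι σ U)).app M ≪≫ (Scheme.Modules.pullbackCongr hj.symm).app M ≪≫
      ((Scheme.Modules.pullbackComp j E.subschemeι).app M).symm ≪≫
      (Scheme.Modules.pullback j).mapIso hE.some ≪≫ Groth.L29.LocFree.pullbackFreeIso j r
  have hM' : FlatMod.IsFinLocFree M' := Groth.L20.DescLocus.isFinLocFree_pullback (preι σ U) hM
  obtain ⟨hP, hiso⟩ := isIso_counit_of_free (X := Spec Γ(X, U.1)) (σ := σ')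
    (Set.Finite.isClosed_biUnion (Set.finite_singleton p) (fun _ _ => hp) |> fun h => by simpa using h)
    (Set.finite_singleton p) (fun q hq => hq ▸ hp) (fun q hq => hq ▸ hregp) (fun q hq => hq ▸ hdimp)
    hbσ hM' (r := r) ⟨by rw [hexc]; exact e⟩
  obtain ⟨W, n, hpW, ⟨i⟩⟩ := hP p
  obtain ⟨i'⟩ := Groth.L29.LocFree.restrict_pullback σ' i
  let V' := σ' ⁻¹ᵁ W
  let c : M'.restrict V'.ι ≅ FlatMod.freeMod (↑V') n :=
    (Scheme.Modules.restrictFunctor V'.ι).mapIso
      (asIso ((Scheme.Modules.pullbackPushforwardAdjunction σ').counit.app M')).symm ≪≫ i'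
  have hmem : ∀ z ∈ (E.support : Set Y), ∃ w, preι σ U w = z ∧ w ∈ V' := by
    intro z hz
    have hσz : σ z = x := by
      have := (Scheme.IdealSheafData.support_comap (ptI hx) σ).le hz
      simpa [← SetLike.mem_coe] using this
    obtain ⟨w, hw⟩ : z ∈ (preι σ U).opensRange := by rw [opensRange_preι]; show σ z ∈ U.1; rwa [hσz]
    refine ⟨w, hw, ?_⟩
    have h1 : U.2.fromSpec (σ' w) = U.2.fromSpec p := by
      rw [show U.2.fromSpec (σ' w) = σ (preι σ U w) from congr($(pullback.condition (f := U.2.fromSpec) (g := σ)) w), hw, hσz, hpx]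
    show σ' w ∈ W
    rw [U.2.fromSpec.isOpenEmbedding.injective h1]
    exact hpW
  have hnr : n = r := by
    obtain ⟨z, hz⟩ := hne
    obtain ⟨w, hw, hwV⟩ := hmem z hz
    have hwE : w ∈ ((E.comap (preι σ U)).support : Set (pre σ U)) := by
      rw [Scheme.IdealSheafData.support_comap]
      show preι σ U w ∈ E.support
      rw [hw]; exact hz
    rw [← Scheme.IdealSheafData.range_subschemeι] at hwE
    obtain ⟨y, hy⟩ := hwE
    haveI : Coh.IsQCoh M' := Groth.L29.DC.PCQCoh.isQCoh_of_isFinLocFree hM'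
    refine Groth.L20.DescLocus.rk_unique M' (E.comap (preι σ U)).subschemeι y e (Opens.mem_sSup.2 ⟨V', ?_, hy ▸ hwV⟩)
    exact ⟨((Scheme.Modules.restrictFunctorIsoPullback V'.ι).app M').symm ≪≫ c⟩
  subst hnr
  let q : (V' : Scheme.{u}) ⟶ Y := V'.ι ≫ preι σ U
  have hq : q.opensRange = preι σ U ''ᵁ V' := by
    rw [Scheme.Hom.opensRange_comp, Scheme.Opens.opensRange_ι]
  refine ⟨q.opensRange, fun z hz => ?_, ?_⟩
  · obtain ⟨w, hw, hwV⟩ := hmem z hz
    exact ⟨⟨w, hwV⟩, hw⟩
  · let d := q.isoOpensRange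
    have hd : d.inv ≫ q = q.opensRange.ι := q.isoOpensRange_inv_comp
    exact ⟨(Scheme.Modules.restrictFunctorIsoPullback _).app M ≪≫ (Scheme.Modules.pullbackCongr hd.symm).app M ≪≫
      ((Scheme.Modules.pullbackComp d.inv q).app M).symm ≪≫ (Scheme.Modules.pullback d.inv).mapIso
        (((Scheme.Modules.pullbackComp V'.ι (preι σ U)).app M).symm ≪≫
          ((Scheme.Modules.restrictFunctorIsoPullback V'.ι).app M').symm ≪≫ c) ≪≫
      Groth.L29.LocFree.pullbackFreeIso d.inv n⟩

end Groth.L13.PairBlow
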