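import Groth.Agent.L13.PairBlow.Basic
import Groth.Agent.L17.ProperCoh
import Groth.Agent.L17.HTor.Acyc
import Groth.Agent.L13.BlowUp.Proper
import Groth.Agent.L18.IdealModule
import Groth.Agent.L14.LocHilb.Lift.PushHom

/-!
# Blow-ups in two generators: vanishing of the first cohomology
-/

set_option autoImplicit false
set_option linter.style.haveILetI false
set_option backward.isDefEq.respectTransparency false

universe u

open CategoryTheory CategoryTheory.Limits AlgebraicGeometry TopologicalSpace Opposite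
open Groth.L18.Frame (rs ro rs_rs rs_self rs_smul IsFrame)
open Groth.L11.BlowSmooth (sI)
open Groth.L13.BU (idealOf)
open Groth.L13.BlowP1 (exIdeal gl Charts)
open Groth.L16.CohLinear (hmap)
open Groth.L13.PointBlow (mulI)

noncomputable section

namespace Groth.L13.PairBlow

variable {Y : Scheme.{u}} {A : Type u} [CommRing A] {f : Fin 2 → A} {σ : Y ⟶ Spec (CommRingCat.of A)}

/-- Globally generated modules on a blow-up in two elements have no first cohomology. -/
theorem subsingleton_H1_gg (hb : BlowUp.IsBlowUp σ (idealOf (sI f))) (M : Y.Modules) [Coh.IsQCoh M]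
    (hg : Curv2.IsGloballyGenerated M) : Subsingleton (Coh.HH Y M 1) := by
  obtain ⟨U, V, hcov, hU, hV, hUV, hsplit⟩ := Groth.Agent.L13.BlowTwo.exists_two_charts f σ hb
  exact Groth.Agent.L13.BlowTwo.subsingleton_H1 hcov hU hV hUV hsplit M hg

/-- Blow-ups in two elements have no cohomology in degree two or more. -/
theorem subsingleton_H_ge_two (hb : BlowUp.IsBlowUp σ (idealOf (sI f))) (M : Y.Modules) [Coh.IsQCoh M]
    (p : ℕ) (hp : 2 ≤ p) : Subsingleton (Coh.HH Y M p) := by
  obtain ⟨U, V, hcov, hU, hV, hUV, -⟩ := Groth.Agent.L13.BlowTwo.exists_two_charts f σ hb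
  exact Groth.Agent.L13.BlowTwo.sup_affine_data hcov hU hV hUV M p hp

theorem isQCoh_idealTensor (hb : BlowUp.IsBlowUp σ (idealOf (sI f))) (M : Y.Modules) [Coh.IsQCoh M] :
    Coh.IsQCoh (CohB1.tensorMod (ClSub.idealMod (exIdeal f σ)) M) := by
  haveI : Coh.IsQCoh (ClSub.idealMod (exIdeal f σ)) :=
    Groth.L21.Extend.isQCoh_of_isInvertible ((Groth.Agent.L19.IdealInvertible.isEffCartier_iff _).2 hb.1)
  exact Groth.L00.Tensor.isQCoh_tensorMod _ _

/-- If the exceptional restriction has no first cohomology, every class is a combination of `f 0`, `f 1` multiples. -/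
theorem exists_eq_smul_add (hb : BlowUp.IsBlowUp σ (idealOf (sI f))) {M : Y.Modules}
    (hM : FlatMod.IsFinLocFree M)
    (hE : Subsingleton (Coh.HH Y ((Scheme.Modules.pushforward (exIdeal f σ).subschemeι).obj
      ((Scheme.Modules.pullback (exIdeal f σ).subschemeι).obj M)) 1))
    (x : Coh.HH Y M 1) :
    ∃ z : Fin 2 → Coh.HH Y M 1, x = ProjUP.toGlobal σ (f 0) • z 0 + ProjUP.toGlobal σ (f 1) • z 1 := by
  haveI : Coh.IsQCoh M := Groth.L29.DC.PCQCoh.isQCoh_of_isFinLocFree hM
  obtain ⟨S, hS, e₁, e₂, hf, ⟨e₃⟩⟩ := exists_seq (exIdeal f σ) hM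
  have h3 : Subsingleton (Coh.HH Y S.X₃ 1) := Groth.L14.LocHilbLift.subsingleton_HH_of_iso e₃.symm 1 hE
  obtain ⟨a, ha⟩ := ((Groth.L16.CohLinear.exact_hmap_hmap hS 1) (hmap e₂.inv 1 x)).1 (Subsingleton.elim _ _)
  let Θ : M ⊞ M ⟶ CohB1.tensorMod (ClSub.idealMod (exIdeal f σ)) M :=
    biprod.desc (secMap f σ M 0) (secMap f σ M 1)
  haveI : Epi Θ := Preadditive.epi_of_cancel_zero _ fun {G} g hg => secMap_jointly_epi hb M g fun i => by
    fin_cases i
    · simpa [Θ] using biprod.inl ≫= hg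
    · simpa [Θ] using biprod.inr ≫= hg
  have hT : (ShortComplex.mk (kernel.ι Θ) Θ (kernel.condition Θ)).ShortExact :=
    { exact := ShortComplex.exact_kernel _ }
  haveI := isQCoh_idealTensor hb M
  haveI : Coh.IsQCoh (M ⊞ M) := Groth.L17.HTorRG.Acyc.isQCoh_biprod inferInstance inferInstance
  haveI : Coh.IsQCoh (kernel Θ) := Groth.L18.IdealModule.isQCoh_kernel Θ
  have h2 := subsingleton_H_ge_two hb (kernel Θ) 2 le_rfl
  obtain ⟨w, hw⟩ := ((Groth.L16.CohLinear.exact_hmap_delta hT 1) (hmap e₁.hom 1 a)).1 (Subsingleton.elim _ _)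
  refine ⟨![hmap biprod.fst 1 w, hmap biprod.snd 1 w], ?_⟩
  have hx : x = hmap (Θ ≫ mulI (exIdeal f σ) M) 1 w := by
    have h := congrArg (hmap e₂.hom 1) ha
    rw [hf, ← Groth.L16.CohLinear.hmap_comp, ← Groth.L16.CohLinear.hmap_comp, Iso.inv_hom_id,
      Groth.L16.CohLinear.hmap_id, Category.assoc, Category.assoc, Iso.inv_hom_id, Category.comp_id,
      Groth.L16.CohLinear.hmap_comp, ← hw, ← Groth.L16.CohLinear.hmap_comp] at h
    exact h.symm
  have hd : Θ ≫ mulI (exIdeal f σ) M = biprod.fst ≫ smulF f σ M 0 + biprod.snd ≫ smulF f σ M 1 := by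
    apply biprod.hom_ext' <;> simp [Θ, secMap_mulI]
  rw [hx, hd, Groth.L21.RR.hmap_add, Groth.L16.CohLinear.hmap_comp, Groth.L16.CohLinear.hmap_comp]
  rfl

/-- The preimage of `D(f i)` is affine. -/
theorem isAffineOpen_preimage_basicOpen (hb : BlowUp.IsBlowUp σ (idealOf (sI f))) (i : Fin 2) :
    IsAffineOpen (σ ⁻¹ᵁ (Spec (CommRingCat.of A)).basicOpen ((Scheme.ΓSpecIso (CommRingCat.of A)).inv (f i))) := by
  obtain ⟨C⟩ := Groth.L13.BlowP1.nonempty_charts hb
  rw [Scheme.preimage_basicOpen]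
  show IsAffineOpen (Y.basicOpen (ProjUP.toGlobal σ (f i)))
  have h : Y.basicOpen (ProjUP.toGlobal σ (f i)) = Y.basicOpen (gl σ (C.W i) (f i)) := by
    refine le_antisymm (fun y hy => ?_) ?_
    · obtain ⟨j, hj⟩ := C.cover y
      have h1 : y ∈ Y.basicOpen (gl σ (C.W j) (f i)) := by
        show y ∈ Y.basicOpen (Y.presheaf.map (homOfLE (le_top : C.W j ≤ ⊤)).op (ProjUP.toGlobal σ (f i)))
        rw [Scheme.basicOpen_res]
        exact ⟨hj, hy⟩
      rw [C.gl_gen, Scheme.basicOpen_mul] at h1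
      have h2 : y ∈ C.W i := C.basicOpen_F j i h1.1
      show y ∈ Y.basicOpen (Y.presheaf.map (homOfLE (le_top : C.W i ≤ ⊤)).op (ProjUP.toGlobal σ (f i)))
      rw [Scheme.basicOpen_res]
      exact ⟨h2, hy⟩
    · show Y.basicOpen (Y.presheaf.map (homOfLE (le_top : C.W i ≤ ⊤)).op (ProjUP.toGlobal σ (f i))) ≤ _
      rw [Scheme.basicOpen_res]
      exact inf_le_right
  rw [h]
  exact (C.affine i).basicOpen _

attribute [local instance] Groth.L17.PushQCoh.additive_push

/-- Globally generated on the exceptional divisor implies no first cohomology. -/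
theorem subsingleton_H1_of_exc [IsNoetherianRing A] (hb : BlowUp.IsBlowUp σ (idealOf (sI f))) {M : Y.Modules}
    (hM : FlatMod.IsFinLocFree M)
    (hE : Subsingleton (Coh.HH Y ((Scheme.Modules.pushforward (exIdeal f σ).subschemeι).obj
      ((Scheme.Modules.pullback (exIdeal f σ).subschemeι).obj M)) 1)) :
    Subsingleton (Coh.HH Y M 1) := by
  haveI : IsNoetherianRing (CommRingCat.of A) := inferInstanceAs (IsNoetherianRing A)
  haveI : IsProper σ := Groth.L13.BU.isProper_blowUp hb fun U => haveI : IsNoetherianRing Γ(Spec (CommRingCat.of A), U.1) := IsLocallyNoetherian.component_noetherian U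
    IsNoetherian.noetherian _
  letI : Y.Over (Spec (CommRingCat.of A)) := ⟨σ⟩
  haveI : IsProper (Y ↘ Spec (CommRingCat.of A)) := inferInstanceAs (IsProper σ)
  haveI : Coh.IsQCoh M := Groth.L29.DC.PCQCoh.isQCoh_of_isFinLocFree hM
  haveI := Groth.L17.PushQCoh.hasInjectiveResolutions Y
  haveI hfin : Module.Finite A (Coh.HH Y M 1) :=
    Groth.L16.ProperFinite.finite_HH A (Groth.L16.NegPow.isCoh_of_isFinLocFree hM) 1
  have hsmul : ∀ (a : A) (z : Coh.HH Y M 1), a • z = ProjUP.toGlobal σ a • z := fun a z => rfl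
  have hkill : ∀ (i : Fin 2) (z : Coh.HH Y M 1), ∃ n : ℕ, f i ^ n • z = 0 := by
    intro i z
    let N := (Coh.Rpush σ 1).obj M
    haveI : Coh.IsQCoh N := Groth.L17.PushQCoh.isQCoh_Rpush σ M 1
    let g := (Scheme.ΓSpecIso (CommRingCat.of A)).inv (f i)
    let e := (Groth.L10.SiteCoh.hEquiv (Groth.L10.TopCoh.topTerminal Y.toTopCat) (Coh.toAb M) 1).trans
      (Groth.L17.CohSections.equiv σ (isAffineOpen_top (Spec (CommRingCat.of A))) M 1)
    haveI : Subsingleton Γ(N, (Spec (CommRingCat.of A)).basicOpen g) := by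
      refine @Equiv.subsingleton _ _ (Groth.L17.CohSections.equiv σ
        ((isAffineOpen_top (Spec (CommRingCat.of A))).basicOpen g) M 1).symm.toEquiv ?_
      exact subsingleton_of_forall_eq 0 (Groth.L17.hu_affine_eq_zero M (isAffineOpen_preimage_basicOpen hb i) 0)
    obtain ⟨n, hn⟩ := Groth.L16.QCohSect.exists_pow_smul_eq_zero (isAffineOpen_top _) N g
      (show Γ(N, ⊤) from e z) (Subsingleton.elim _ _)
    refine ⟨n, e.injective ?_⟩
    rw [map_zero]
    have h := Groth.L17.CohSections.equiv_smul σ (isAffineOpen_top (Spec (CommRingCat.of A))) M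
      ((Scheme.ΓSpecIso (CommRingCat.of A)).inv (f i ^ n)) 1
      (Groth.L10.SiteCoh.hEquiv (Groth.L10.TopCoh.topTerminal Y.toTopCat) (Coh.toAb M) 1 z)
    refine ((congrArg _ (Groth.L10.SiteCoh.hEquiv_map _ (Coh.smulAb M _) 1 z)).trans h).trans ?_
    rw [map_pow]
    exact hn
  have hall : ∀ z : Coh.HH Y M 1, z ∈ (sI f • ⊤ : Submodule A (Coh.HH Y M 1)) := fun z => by
    obtain ⟨w, hw⟩ := exists_eq_smul_add hb hM hE z
    rw [hw, ← hsmul, ← hsmul]
    exact add_mem (Submodule.smul_mem_smul (Ideal.subset_span ⟨0, rfl⟩) Submodule.mem_top)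
      (Submodule.smul_mem_smul (Ideal.subset_span ⟨1, rfl⟩) Submodule.mem_top)
  obtain ⟨r, hr, hr0⟩ := Submodule.exists_sub_one_mem_and_smul_eq_zero_of_fg_of_le_smul (sI f) ⊤
    hfin.fg_top fun z _ => hall z
  refine subsingleton_of_forall_eq 0 fun z => ?_
  obtain ⟨m, hm⟩ := hkill 0 z
  obtain ⟨n, hn⟩ := hkill 1 z
  let K : Ideal A := (Submodule.span A {z}).annihilator
  have hK : ∀ a : A, a ∈ K ↔ a • z = 0 := fun a => Submodule.mem_annihilator_span_singleton z a
  have hrad : sI f ≤ K.radical := Ideal.span_le.2 (by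
    rintro _ ⟨i, rfl⟩
    fin_cases i
    · exact ⟨m, (hK _).2 hm⟩
    · exact ⟨n, (hK _).2 hn⟩)
  have h1 : r ∈ K.radical := Ideal.le_radical ((hK r).2 (hr0 z trivial))
  have htop : K.radical = ⊤ := (Ideal.eq_top_iff_one _).2 (by
    have := sub_mem h1 (hrad hr)
    rwa [sub_sub_cancel] at this)
  simpa using (hK 1).1 ((Ideal.eq_top_iff_one _).1 (Ideal.radical_eq_top.1 htop))

/-- Globally generated on the exceptional divisor implies no first cohomology. -/
theorem subsingleton_H1 [IsNoetherianRing A] (hb : BlowUp.IsBlowUp σ (idealOf (sI f))) {M : Y.Modules}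
    (hM : FlatMod.IsFinLocFree M)
    (hgg : Curv2.IsGloballyGenerated ((Scheme.Modules.pullback (exIdeal f σ).subschemeι).obj M)) :
    Subsingleton (Coh.HH Y M 1) := by
  haveI : Coh.IsQCoh M := Groth.L29.DC.PCQCoh.isQCoh_of_isFinLocFree hM
  haveI hq : Coh.IsQCoh ((Scheme.Modules.pullback (exIdeal f σ).subschemeι).obj M) :=
    Groth.L16.AffineBC.isQCoh_pullback _ M
  haveI : Coh.IsQCoh ((Scheme.Modules.pushforward (exIdeal f σ).subschemeι).obj
      ((Scheme.Modules.pullback (exIdeal f σ).subschemeι).obj M)) := Groth.L16.QcqsPush.isQCoh_push _ _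
  exact subsingleton_H1_of_exc hb hM
    (subsingleton_H1_gg hb _ (Groth.L16.Exist.Adic.isGloballyGenerated_push _ hgg))

end Groth.L13.PairBlow
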